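/-
In a perfect finite group a Sylow subgroup is generated by the commutator values it contains.
-/
import Cfsg.Agent.CommVal.Basic
import Cfsg.Agent.S4250
import Cfsg.Agent.Core.Residual

set_option linter.unusedSectionVars false
set_option linter.style.haveILetI false
set_option autoImplicit false

namespace Cfsg.Agent.CommVal

open scoped commutatorElement

universe u

variable {G : Type u} [Group G]

theorem Cond.mem_pCore [Finite G] {k : ℕ} (hC : Cond G k) {M : Subgroup G}
    (hM : Group.IsNilpotent ((⊤ : Subgroup M).lowerCentralSeries k)) {q : ℕ} [hq : Fact q.Prime]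
    {y : G} (hy : y ∈ Val G k) (hyq : ∃ m : ℕ, orderOf y = q ^ m) (hyM : y ∈ M) :
    y ∈ (Cfsg.pCore q M).map M.subtype := by
  refine ⟨⟨y, hyM⟩, mem_pCore_of_forall_commute hM ?_ fun w hw => ?_, rfl⟩
  · simpa using hyq
  obtain ⟨m, hm⟩ := hyq
  apply Subtype.ext
  refine (hC.commute hy (P := (Cfsg.pPrimeCore q M).map M.subtype) ?_ ?_ ⟨w, hw, rfl⟩).eq
  · have h1 := Subgroup.le_normalizer_map M.subtype
      (H := Cfsg.pPrimeCore q M) (x := y)
    refine h1 ?_
    exact ⟨⟨y, hyM⟩, by rw [Subgroup.normalizer_eq_top]; exact Subgroup.mem_top _, rfl⟩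
  · rw [Core.card_map_subtype, hm]
    exact Nat.Coprime.pow_right _ (Core.card_pPrimeCore_coprime q M)

/-- The core step: a character of `B` killing all long commutators with a `p'`-element `g` is
invariant under `g`. -/
theorem hom_conj_eq {A : Type*} [CommGroup A] {p : ℕ} (hA : IsPGroup p A) {B : Subgroup G}
    (f : G → A) (hf : ∀ a ∈ B, ∀ b ∈ B, f (a * b) = f a * f b) {g : G}
    (hg : g ∈ Subgroup.normalizer (B : Set G)) (hgp : (orderOf g).Coprime p) :
    ∀ j : ℕ, (∀ a ∈ B, f ((phi g)^[j + 1] a) = 1) → ∀ a ∈ B, f (g * a * g⁻¹) = f a := by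
  have hf1 : f 1 = 1 := by
    have h := hf 1 B.one_mem 1 B.one_mem
    rw [mul_one] at h
    simpa using h
  have hfinv : ∀ a ∈ B, f a⁻¹ = (f a)⁻¹ := fun a ha => eq_inv_of_mul_eq_one_left <| by
    rw [← hf _ (inv_mem ha) _ ha, inv_mul_cancel, hf1]
  have hconj : ∀ a ∈ B, g * a * g⁻¹ ∈ B := fun a ha =>
    (Subgroup.mem_normalizer_iff.mp hg a).mp ha
  have hphi : ∀ a ∈ B, f (phi g a) = f a * (f (g * a * g⁻¹))⁻¹ := fun a ha => by
    rw [← hfinv _ (hconj a ha), ← hf _ ha _ (inv_mem (hconj a ha))]
    congr 1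
    simp only [phi, commutatorElement_def]
    group
  intro j
  induction j with
  | zero =>
    intro h a ha
    have := h a ha
    rw [Function.iterate_one, hphi a ha, mul_inv_eq_one] at this
    exact this.symm
  | succ j ih =>
    intro h a ha
    refine ih (fun a ha => ?_) a ha
    set n := orderOf g with hn
    -- the translates of `w = phi^[j] a`
    set w : ℕ → G := fun i => g ^ i * (phi g)^[j] a * (g ^ i)⁻¹ with hw
    have hnat : ∀ (i t : ℕ) (x : G), (phi g)^[t] (g ^ i * x * (g ^ i)⁻¹)
        = g ^ i * (phi g)^[t] x * (g ^ i)⁻¹ := by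
      intro i t
      induction t with
      | zero => intro x; rfl
      | succ t iht =>
        intro x
        rw [Function.iterate_succ_apply', Function.iterate_succ_apply', iht]
        simp only [phi, commutatorElement_def]
        group
    have hgi : ∀ i : ℕ, ∀ x ∈ B, g ^ i * x * (g ^ i)⁻¹ ∈ B := fun i x hx =>
      (Subgroup.mem_normalizer_iff.mp (pow_mem hg i) x).mp hx
    have hwB : ∀ i, w i ∈ B := fun i => hgi i _ (iterate_phi_mem hg ha j)
    have hb : ∀ i, phi g (w i) ∈ B := fun i => phi_mem hg (hwB i)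
    have hsucc : ∀ i, g * w i * g⁻¹ = w (i + 1) := fun i => by
      simp only [hw, pow_succ']
      group
    have hbsucc : ∀ i, g * phi g (w i) * g⁻¹ = phi g (w (i + 1)) := fun i => by
      rw [← hsucc]
      simp only [phi, commutatorElement_def]
      group
    have hconst : ∀ i, f (phi g (w i)) = f (phi g (w 0)) := by
      intro i
      induction i with
      | zero => rfl
      | succ i ihi =>
        rw [← ihi]
        have h2 := h _ (hgi i a ha)
        rw [Function.iterate_succ_apply', Function.iterate_succ_apply', hnat,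
          hphi _ (hb i), hbsucc, mul_inv_eq_one] at h2
        exact h2.symm
    have htel : ∀ m : ℕ, f (phi g (w 0)) ^ m = f (w 0) * (f (w m))⁻¹ := by
      intro m
      induction m with
      | zero => simp
      | succ m ihm =>
        have h3 : f (phi g (w 0)) = f (w m) * (f (w (m + 1)))⁻¹ := by
          rw [← hconst m, hphi _ (hwB m), hsucc]
        rw [pow_succ, ihm, h3]
        group
    have hwn : w n = w 0 := by simp [hw, hn, pow_orderOf_eq_one]
    have hone := htel n
    rw [hwn, mul_inv_cancel, ← orderOf_dvd_iff_pow_eq_one] at hone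
    obtain ⟨t, ht⟩ := hA (f (phi g (w 0)))
    have : f (phi g (w 0)) = 1 := orderOf_eq_one_iff.mp (Nat.eq_one_of_dvd_coprimes
      (hgp.pow_right t) hone (orderOf_dvd_of_pow_eq_one ht))
    rw [Function.iterate_succ_apply']
    simpa [hw] using this

/-- In a perfect group every Sylow subgroup is generated by its commutator values. -/
theorem sylow_eq_closure_val [Finite G] (hperf : commutator G = ⊤) (k : ℕ) {p : ℕ}
    [hp : Fact p.Prime] (P : Sylow p G) :
    (P : Subgroup G) = Subgroup.closure (Val G k ∩ (P : Set G)) := by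
  set L₀ := Subgroup.closure (Val G k ∩ (P : Set G))
  have hL₀ : L₀ ≤ P := (Subgroup.closure_le _).mpr Set.inter_subset_right
  by_contra hne
  have hne' : L₀.subgroupOf (P : Subgroup G) ≠ ⊤ := fun h =>
    hne (le_antisymm (Subgroup.subgroupOf_eq_top.mp h) hL₀)
  obtain hc | ⟨M, hM, hLM⟩ := eq_top_or_exists_le_coatom (L₀.subgroupOf (P : Subgroup G))
  · exact hne' hc
  haveI : Group.IsNilpotent (P : Subgroup G) := P.isPGroup'.isNilpotent
  haveI : M.Normal := Subgroup.NormalizerCondition.normal_of_coatom M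
    Group.normalizerCondition_of_isNilpotent hM
  haveI hsimple : IsSimpleGroup ((P : Subgroup G) ⧸ M) := by
    haveI : Nontrivial ((P : Subgroup G) ⧸ M) :=
      QuotientGroup.nontrivial_iff.mpr hM.1
    refine ⟨fun N _ => ?_⟩
    have hle : M ≤ N.comap (QuotientGroup.mk' M) := QuotientGroup.le_comap_mk' M N
    rcases hle.eq_or_lt with h | h
    · left
      apply Subgroup.comap_injective (QuotientGroup.mk'_surjective M)
      rw [← h, MonoidHom.comap_bot, QuotientGroup.ker_mk']
    · right
      apply Subgroup.comap_injective (QuotientGroup.mk'_surjective M)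
      rw [hM.2 _ h, Subgroup.comap_top]
  haveI : Group.IsSolvable ((P : Subgroup G) ⧸ M) := by
    haveI : Group.IsSolvable (P : Subgroup G) := inferInstance
    infer_instance
  have hcomm : ∀ a b : (P : Subgroup G) ⧸ M, a * b = b * a :=
    IsSimpleGroup.comm_iff_isSolvable.mpr inferInstance
  letI : CommGroup ((P : Subgroup G) ⧸ M) := { (inferInstance : Group _) with mul_comm := hcomm }
  set L := M.map (P : Subgroup G).subtype with hL
  classical
  let f : G → (P : Subgroup G) ⧸ M := fun a =>
    if h : a ∈ (P : Subgroup G) then QuotientGroup.mk' M ⟨a, h⟩ else 1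
  have hf : ∀ a ∈ (P : Subgroup G), ∀ b ∈ (P : Subgroup G), f (a * b) = f a * f b := by
    intro a ha b hb
    simp only [f, dif_pos ha, dif_pos hb, dif_pos (mul_mem ha hb)]
    exact map_mul (QuotientGroup.mk' M) ⟨a, ha⟩ ⟨b, hb⟩
  have hfL : ∀ a ∈ (P : Subgroup G), (f a = 1 ↔ a ∈ L) := by
    intro a ha
    simp only [f, dif_pos ha, hL]
    constructor
    · intro h
      exact ⟨⟨a, ha⟩, (QuotientGroup.eq_one_iff _).mp h, rfl⟩
    · rintro ⟨b, hb, rfl⟩
      exact (QuotientGroup.eq_one_iff _).mpr hb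
  have hval : ∀ a ∈ (P : Subgroup G), a ∈ Val G k → f a = 1 := fun a ha hv =>
    (hfL a ha).mpr ⟨⟨a, ha⟩, hLM (Subgroup.subset_closure ⟨hv, ha⟩), rfl⟩
  have key : ∀ B : Subgroup G, B ≤ (P : Subgroup G) →
      ¬ p ∣ ((P : Subgroup G) ⊓ Subgroup.normalizer (B : Set G)).relIndex
        (Subgroup.normalizer (B : Set G)) →
      ∀ a ∈ B, ∀ x ∈ Subgroup.normalizer (B : Set G), ⁅a, x⁆ ∈ L := by
    intro B hBP hB a ha x hx
    set N := Subgroup.normalizer (B : Set G)
    have hconj : ∀ x ∈ N, ∀ a ∈ B, x * a * x⁻¹ ∈ B := fun x hx a ha =>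
      (Subgroup.mem_normalizer_iff.mp hx a).mp ha
    let E : Subgroup G :=
      { carrier := {x | x ∈ N ∧ ∀ a ∈ B, f (x * a * x⁻¹) = f a}
        one_mem' := ⟨N.one_mem, fun a _ => by simp⟩
        mul_mem' := by
          rintro x y ⟨hx, hx'⟩ ⟨hy, hy'⟩
          refine ⟨N.mul_mem hx hy, fun a ha => ?_⟩
          rw [← hy' a ha, ← hx' _ (hconj y hy a ha)]
          group
        inv_mem' := by
          rintro x ⟨hx, hx'⟩
          refine ⟨N.inv_mem hx, fun a ha => ?_⟩
          rw [← hx' _ (hconj x⁻¹ (N.inv_mem hx) a ha)]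
          group }
    have hEN : N ≤ E := by
      rw [← Subgroup.subgroupOf_eq_top, ← top_le_iff]
      set S := ((P : Subgroup G) ⊓ N).subgroupOf N
      have hS : IsPGroup p S := (P.isPGroup'.to_le inf_le_left).comap_subtype
      have hdvd : ¬ p ∣ S.index := hB
      rw [← Core.sylow_sup_pResidual (hS.toSylow hdvd), sup_le_iff]
      constructor
      · rintro ⟨z, hzN⟩ ⟨hzP', -⟩
        have hzP : z ∈ (P : Subgroup G) := hzP'
        refine ⟨hzN, fun a ha => ?_⟩
        show f (z * a * z⁻¹) = f a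
        rw [hf _ (mul_mem hzP (hBP ha)) _ (inv_mem hzP), hf _ hzP _ (hBP ha),
          mul_comm (f z), mul_assoc, ← hf _ hzP _ (inv_mem hzP), mul_inv_cancel,
          (hfL 1 (one_mem _)).mpr (one_mem _), mul_one]
      · refine (Subgroup.closure_le _).mpr ?_
        rintro ⟨z, hzN⟩ hz
        refine ⟨hzN, hom_conj_eq (p := p) (P.isPGroup'.to_quotient M) f
          (fun a ha b hb => hf a (hBP ha) b (hBP hb)) hzN (by simpa using hz) k fun a ha => ?_⟩
        exact hval _ (hBP (iterate_phi_mem hzN ha _))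
          (val_succ_subset k (iterate_phi_mem_val z a (k + 1)))
    have h1 := (hEN hx).2 a ha
    have hxa := hBP (hconj x hx a ha)
    rw [show ⁅a, x⁆ = a * (x * a * x⁻¹)⁻¹ by simp only [commutatorElement_def]; group]
    refine (hfL _ (mul_mem (hBP ha) (inv_mem hxa))).mp ?_
    have hinv : f (x * a * x⁻¹)⁻¹ = (f (x * a * x⁻¹))⁻¹ := eq_inv_of_mul_eq_one_left <| by
      rw [← hf _ (inv_mem hxa) _ hxa, inv_mul_cancel, (hfL 1 (one_mem _)).mpr (one_mem _)]
    rw [hf _ (hBP ha) _ (inv_mem hxa), hinv, h1, mul_inv_cancel]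
  have hPL : (P : Subgroup G) ≤ L := by
    have h := S4250.result p P
    rw [hperf, inf_top_eq] at h
    rw [h]
    refine sup_le (Subgroup.commutator_le.mpr ?_) (iSup₂_le fun Q hQ => iSup₂_le fun x hx => ?_)
    · intro a ha n hn
      refine key _ le_rfl ?_ a ha n hn
      rw [inf_eq_left.mpr Subgroup.le_normalizer]
      intro hd
      exact P.not_dvd_index (hd.trans (Subgroup.relIndex_dvd_index_of_le Subgroup.le_normalizer))
    · rw [Subgroup.commutator_le]
      intro a ha z hz
      exact key _ inf_le_left hQ.1 a ha z (Subgroup.zpowers_le.mpr hx.1 hz)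
  apply hM.1
  rw [eq_top_iff]
  intro z _
  obtain ⟨z', hz', he⟩ := hPL z.2
  rwa [← Subtype.ext (show (z' : G) = z from he)]

end Cfsg.Agent.CommVal
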