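/-
A non-abelian simple group has no system of "value sets" as produced by the product-order
condition on commutator values: uniqueness theorems, and the even order case.
-/
import Cfsg.Agent.CommVal.Gen
import Cfsg.Agent.S0215
import Cfsg.Agent.S0199

set_option linter.unusedSectionVars false
set_option linter.style.haveILetI false
set_option autoImplicit false

namespace Cfsg.Agent.CommVal

open scoped commutatorElement

universe u

/-- The properties of the sets of `q`-power order values used in the simple case. -/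
structure ValSys (S : Type u) [Group S] where
  V : ℕ → Set S
  orderOf_eq : ∀ q : ℕ, q.Prime → ∀ y ∈ V q, ∃ m : ℕ, orderOf y = q ^ m
  conj : ∀ q : ℕ, q.Prime → ∀ y ∈ V q, ∀ g : S, g * y * g⁻¹ ∈ V q
  comm : ∀ (q : ℕ) [Fact q.Prime] (P : Sylow q S), ∀ y ∈ V q, y ∈ (P : Subgroup S) →
    ∀ x ∈ (P : Subgroup S), ⁅y, x⁆ ∈ V q
  gen : ∀ (q : ℕ) [Fact q.Prime] (P : Sylow q S),
    (P : Subgroup S) = Subgroup.closure (V q ∩ (P : Set S))
  core : ∀ (q : ℕ) [Fact q.Prime] (M : Subgroup S), M ≠ ⊤ → ∀ y ∈ V q, y ∈ M →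
    y ∈ (Cfsg.pCore q M).map M.subtype
  comm_fitting : ∀ M : Subgroup S, M ≠ ⊤ → ∀ g ∈ M, ∀ h ∈ M, (orderOf g).Coprime (orderOf h) →
    ⁅g, h⁆ ∈ (Cfsg.fittingSubgroup M).map M.subtype
  invol : ∀ E : Subgroup S, (∀ a ∈ E, a * a = 1) → ∀ c : S, Odd (orderOf c) →
    c ∈ Subgroup.normalizer (E : Set S) → ∀ a ∈ E, c * a * c⁻¹ ≠ a → ∃ v ∈ V 2, v ∈ E ∧ v ≠ 1

variable {S : Type u} [Group S]

/-- A subgroup containing every prime-power-order power of an element contains the element. -/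
theorem mem_of_parts [Finite S] (H : Subgroup S) : ∀ (n : ℕ) (g : S), orderOf g = n →
    (∀ c ∈ Subgroup.zpowers g, ∀ q : ℕ, q.Prime → (∃ m, orderOf c = q ^ m) → c ∈ H) → g ∈ H := by
  intro n
  induction n using Nat.strong_induction_on with
  | _ n ih =>
    intro g hn h
    by_cases h1 : n = 1
    · rw [orderOf_eq_one_iff.mp (hn.trans h1)]
      exact H.one_mem
    obtain ⟨q, hq, hqn⟩ := Nat.exists_prime_and_dvd h1
    have hn0 : n ≠ 0 := hn ▸ (orderOf_pos g).ne'
    set a := q ^ n.factorization q with ha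
    set b := n / q ^ n.factorization q with hb
    have hab : a * b = n := Nat.ordProj_mul_ordCompl_eq_self n q
    by_cases hb1 : b = 1
    · exact h g (Subgroup.mem_zpowers g) q hq ⟨n.factorization q, by
        rw [hb1, mul_one, ha] at hab
        rw [hn, hab]⟩
    have ha1 : 1 < a := Nat.one_lt_pow (hq.factorization_pos_of_dvd hn0 hqn).ne' hq.one_lt
    have hb0 : 0 < b := Nat.pos_of_ne_zero fun h0 => hn0 (by rw [← hab, h0, mul_zero])
    have hco : a.Coprime b := (Nat.coprime_ordCompl hq hn0).pow_left _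
    have key : ∀ d e : ℕ, d * e = n → 1 < d → e ≠ 0 → g ^ d ∈ H := by
      intro d e hde hd he
      refine ih e ?_ (g ^ d) ?_ fun c hc => h c (Subgroup.zpowers_le.mpr
        (Subgroup.pow_mem _ (Subgroup.mem_zpowers g) d) hc)
      · rw [← hde]
        exact lt_mul_of_one_lt_left (Nat.pos_of_ne_zero he) hd
      · rw [orderOf_pow_of_dvd (by omega) (hn ▸ Dvd.intro e hde), hn, ← hde,
          Nat.mul_div_cancel_left _ (by omega)]
    have hga := key a b hab ha1 hb0.ne'
    have hgb := key b a (by rw [mul_comm]; exact hab) (by omega) (by omega)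
    have : g = (g ^ a) ^ (Nat.gcdA a b) * (g ^ b) ^ (Nat.gcdB a b) := by
      rw [← zpow_natCast g a, ← zpow_natCast g b, ← zpow_mul, ← zpow_mul, ← zpow_add,
        ← Nat.gcd_eq_gcd_ab, hco.gcd_eq_one, Nat.cast_one, zpow_one]
    rw [this]
    exact mul_mem (zpow_mem hga _) (zpow_mem hgb _)

namespace ValSys

variable [Finite S] [hS : IsSimpleGroup S] (V : ValSys S) (hnc : ∃ a b : S, a * b ≠ b * a)
include V hnc

theorem eq_bot_or_top_of_normal {H : Subgroup S} (h : H.Normal) : H = ⊥ ∨ H = ⊤ :=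
  hS.eq_bot_or_eq_top_of_normal H h

theorem normalizer_ne_top {H : Subgroup S} (h1 : H ≠ ⊥) (h2 : H ≠ ⊤) :
    Subgroup.normalizer (H : Set S) ≠ ⊤ := fun h =>
  (eq_bot_or_top_of_normal V hnc (Subgroup.normalizer_eq_top_iff.mp h)).elim h1 h2

theorem center_eq_bot : Subgroup.center S = ⊥ :=
  (eq_bot_or_top_of_normal V hnc inferInstance).resolve_right fun h => by
    obtain ⟨a, b, hab⟩ := hnc
    exact hab (Subgroup.mem_center_iff.mp (h ▸ Subgroup.mem_top b : b ∈ Subgroup.center S) a)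

theorem sylow_ne_top {q : ℕ} [Fact q.Prime] (P : Sylow q S) : (P : Subgroup S) ≠ ⊤ := fun h => by
  haveI : Nontrivial S := hS.toNontrivial
  have hp : IsPGroup q S := (h ▸ P.isPGroup' : IsPGroup q (⊤ : Subgroup S)).of_equiv Subgroup.topEquiv
  have := hp.center_nontrivial
  rw [center_eq_bot V hnc] at this
  exact not_nontrivial _ this

theorem isPGroup_zpowers {q : ℕ} {y : S} (h : ∃ m, orderOf y = q ^ m) :
    IsPGroup q (Subgroup.zpowers y) := by
  obtain ⟨m, hm⟩ := h
  exact IsPGroup.of_card (n := m) (by rw [Nat.card_zpowers, hm])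

theorem exists_coatom_ge {H : Subgroup S} (hH : H ≠ ⊤) : ∃ M, IsCoatom M ∧ H ≤ M :=
  (eq_top_or_exists_le_coatom H).resolve_left hH

/-- In a subgroup `N(P)` every `q`-element lies in `P`. -/
theorem mem_of_mem_normalizer {q : ℕ} [hq : Fact q.Prime] (P : Sylow q S) {x : S}
    (hx : x ∈ Subgroup.normalizer ((P : Subgroup S) : Set S)) (hxq : ∃ m, orderOf x = q ^ m) :
    x ∈ (P : Subgroup S) := by
  have h1 : IsPGroup q (Subgroup.zpowers x ⊔ (P : Subgroup S) : Subgroup S) :=
    (isPGroup_zpowers V hnc hxq).to_sup_of_normal_right' P.isPGroup' (Subgroup.zpowers_le.mpr hx)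
  have := P.is_maximal' h1 le_sup_right
  exact this ▸ Subgroup.mem_sup_left (Subgroup.mem_zpowers x)

/-- A maximal subgroup containing a nontrivial value is the normalizer of a Sylow subgroup
containing it. -/
theorem exists_sylow_of_coatom {q : ℕ} [hq : Fact q.Prime] {M : Subgroup S} (hM : IsCoatom M)
    {y : S} (hy : y ∈ V.V q) (hyM : y ∈ M) (hy1 : y ≠ 1) :
    ∃ P : Sylow q S, y ∈ (P : Subgroup S) ∧ M = Subgroup.normalizer ((P : Subgroup S) : Set S) := by
  set O := (Cfsg.pCore q M).map M.subtype with hO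
  have hOp : IsPGroup q O := (Core.isPGroup_pCore q M).map _
  obtain ⟨T, hT⟩ := hOp.exists_le_sylow
  set D := Subgroup.closure (V.V q ∩ (M : Set S))
  have hVO : ∀ v ∈ V.V q, v ∈ M → v ∈ O := fun v hv hvM => V.core q M hM.1 v hv hvM
  have hyT : y ∈ (T : Subgroup S) := hT (hVO y hy hyM)
  have hDle : D ≤ M := (Subgroup.closure_le _).mpr Set.inter_subset_right
  have hD1 : D ≠ ⊥ := fun h => hy1 (by
    have : y ∈ D := Subgroup.subset_closure ⟨hy, hyM⟩
    rwa [h, Subgroup.mem_bot] at this)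
  have hDnorm : ∀ g : S, (∀ v ∈ V.V q, v ∈ M → g * v * g⁻¹ ∈ M) →
      (∀ v ∈ V.V q, v ∈ M → g⁻¹ * v * g ∈ M) → g ∈ Subgroup.normalizer (D : Set S) := by
    intro g hg hg'
    have aux : ∀ h : S, (∀ v ∈ V.V q, v ∈ M → h * v * h⁻¹ ∈ M) → ∀ x ∈ D, h * x * h⁻¹ ∈ D := by
      intro h hh x hx
      have : D ≤ D.comap (MulAut.conj h).toMonoidHom := (Subgroup.closure_le _).mpr fun v hv =>
        Subgroup.subset_closure ⟨by simpa using V.conj q hq.out v hv.1 h, by
          simpa using hh v hv.1 hv.2⟩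
      simpa using this hx
    rw [Subgroup.mem_normalizer_iff]
    refine fun x => ⟨aux g hg x, fun hx => ?_⟩
    have := aux g⁻¹ (fun v hv hv' => by simpa using hg' v hv hv') _ hx
    simpa [mul_assoc] using this
  have hMD : M = Subgroup.normalizer (D : Set S) := by
    have hle : M ≤ Subgroup.normalizer (D : Set S) := fun g hg =>
      hDnorm g (fun v _ hv => mul_mem (mul_mem hg hv) (inv_mem hg))
        (fun v _ hv => mul_mem (mul_mem (inv_mem hg) hv) hg)
    rcases hle.eq_or_lt with h | h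
    · exact h
    · exact absurd (hM.2 _ h) (normalizer_ne_top V hnc hD1 fun htop => hM.1 (top_le_iff.mp (htop ▸ hDle)))
  have hTM : (T : Subgroup S) ≤ M := by
    by_contra hne
    haveI : Group.IsNilpotent (T : Subgroup S) := T.isPGroup'.isNilpotent
    set K := M.subgroupOf (T : Subgroup S)
    have hK : K < ⊤ := lt_top_iff_ne_top.mpr fun h => hne (Subgroup.subgroupOf_eq_top.mp h)
    obtain ⟨⟨t, htT⟩, ht, htK⟩ := SetLike.exists_of_lt (Group.normalizerCondition_of_isNilpotent K hK)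
    refine htK ?_
    show t ∈ M
    rw [hMD]
    have hconj : ∀ v ∈ V.V q, v ∈ M → ∀ w : (T : Subgroup S),
        w ∈ Subgroup.normalizer (K : Set (T : Subgroup S)) → (w : S) * v * (w : S)⁻¹ ∈ M := by
      intro v hv hvM w hw
      exact (Subgroup.mem_normalizer_iff.mp hw ⟨v, hT (hVO v hv hvM)⟩).mp hvM
    exact hDnorm t (fun v hv hvM => hconj v hv hvM _ ht)
      (fun v hv hvM => by simpa using hconj v hv hvM _ (inv_mem ht))
  have hTD : D = (T : Subgroup S) := by
    refine le_antisymm ((Subgroup.closure_le _).mpr fun v hv => hT (hVO v hv.1 hv.2)) ?_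
    rw [V.gen q T]
    exact Subgroup.closure_mono fun v hv => ⟨hv.1, hTM hv.2⟩
  exact ⟨T, hyT, by rw [hMD, hTD]⟩

/-- A nontrivial value lies in exactly one Sylow subgroup. -/
theorem sylow_unique_of_value {q : ℕ} [hq : Fact q.Prime] {y : S} (hy : y ∈ V.V q) (hy1 : y ≠ 1) :
    ∀ P₁ P₂ : Sylow q S, y ∈ (P₁ : Subgroup S) → y ∈ (P₂ : Subgroup S) → P₁ = P₂ := by
  suffices h : ∀ (n : ℕ) (P₁ P₂ : Sylow q S), y ∈ (P₁ : Subgroup S) → y ∈ (P₂ : Subgroup S) →
      Nat.card (P₁ : Subgroup S) - Nat.card ((P₁ : Subgroup S) ⊓ P₂ : Subgroup S) = n → P₁ = P₂ from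
    fun P₁ P₂ h1 h2 => h _ P₁ P₂ h1 h2 rfl
  intro n
  induction n using Nat.strong_induction_on with
  | _ n ih =>
    intro P₁ P₂ h1 h2 hn
    by_contra hne
    set I := (P₁ : Subgroup S) ⊓ P₂ with hI
    have hIne : I ≠ ⊥ := fun h => hy1 (Subgroup.mem_bot.mp (h ▸ ⟨h1, h2⟩ : y ∈ (⊥ : Subgroup S)))
    have hIt : I ≠ ⊤ := fun h => sylow_ne_top V hnc P₁ (top_le_iff.mp (h ▸ inf_le_left))
    obtain ⟨M, hM, hJM⟩ := exists_coatom_ge V hnc (normalizer_ne_top V hnc hIne hIt)
    obtain ⟨P₀, hy0, hM0⟩ :=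
      exists_sylow_of_coatom V hnc hM hy (hJM (Subgroup.le_normalizer ⟨h1, h2⟩)) hy1
    have step : ∀ P : Sylow q S, y ∈ (P : Subgroup S) → I ≤ (P : Subgroup S) → P = P₀ := by
      intro P hyP hIP
      by_contra hPne
      by_cases hIeq : I = (P : Subgroup S)
      · -- then `P` is `P₁` and `P₂`
        apply hne
        have e1 : (P : Subgroup S) = P₁ := P.is_maximal' P₁.isPGroup' (hIeq ▸ inf_le_left) |>.symm
        have e2 : (P : Subgroup S) = P₂ := P.is_maximal' P₂.isPGroup' (hIeq ▸ inf_le_right) |>.symm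
        exact Sylow.ext (e1.symm.trans e2)
      haveI : Group.IsNilpotent (P : Subgroup S) := P.isPGroup'.isNilpotent
      have hK : I.subgroupOf (P : Subgroup S) < ⊤ := lt_top_iff_ne_top.mpr fun h =>
        hIeq (le_antisymm hIP (Subgroup.subgroupOf_eq_top.mp h))
      obtain ⟨⟨t, htP⟩, ht, htI⟩ :=
        SetLike.exists_of_lt (Group.normalizerCondition_of_isNilpotent _ hK)
      have htN : t ∈ Subgroup.normalizer (I : Set S) := by
        rw [Subgroup.mem_normalizer_iff]
        intro x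
        constructor
        · intro hx
          exact (Subgroup.mem_normalizer_iff.mp ht ⟨x, hIP hx⟩).mp hx
        · intro hx
          have hxP : x ∈ (P : Subgroup S) := by
            have := mul_mem (mul_mem (inv_mem htP) (hIP hx)) htP
            simpa [mul_assoc] using this
          exact (Subgroup.mem_normalizer_iff.mp ht ⟨x, hxP⟩).mpr hx
      have hord : ∃ m, orderOf t = q ^ m := by
        obtain ⟨m, hm⟩ := IsPGroup.iff_orderOf.mp P.isPGroup' ⟨t, htP⟩
        exact ⟨m, by rwa [Subgroup.orderOf_mk] at hm⟩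
      have htP₀ : t ∈ (P₀ : Subgroup S) :=
        mem_of_mem_normalizer V hnc P₀ (hM0 ▸ hJM htN) hord
      have hI0 : I ≤ (P₀ : Subgroup S) := fun x hx => by
        refine mem_of_mem_normalizer V hnc P₀ (hM0 ▸ hJM (Subgroup.le_normalizer hx)) ?_
        obtain ⟨m, hm⟩ := IsPGroup.iff_orderOf.mp P₁.isPGroup' ⟨x, hx.1⟩
        exact ⟨m, by rwa [Subgroup.orderOf_mk] at hm⟩
      refine hPne (ih _ ?_ P P₀ hyP hy0 rfl)
      have hlt : I < (P : Subgroup S) ⊓ P₀ := lt_of_le_of_ne (le_inf hIP hI0) fun h =>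
        htI (h ▸ ⟨htP, htP₀⟩ : t ∈ I)
      have hc : Nat.card (P : Subgroup S) = Nat.card (P₁ : Subgroup S) := by
        rw [P.card_eq_multiplicity, P₁.card_eq_multiplicity]
      have hlt' : Nat.card I < Nat.card ((P : Subgroup S) ⊓ P₀ : Subgroup S) :=
        Set.Finite.card_lt_card (Set.toFinite _) hlt
      have hle : Nat.card ((P : Subgroup S) ⊓ P₀ : Subgroup S) ≤ Nat.card (P : Subgroup S) :=
        Subgroup.card_le_of_le inf_le_left
      omega
    exact hne ((step P₁ h1 inf_le_left).trans (step P₂ h2 inf_le_right).symm)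

/-- A proper subgroup containing a nontrivial value lies in the normalizer of its Sylow
subgroup. -/
theorem le_normalizer_of_value {q : ℕ} [Fact q.Prime] {H : Subgroup S} (hH : H ≠ ⊤) {y : S}
    (hy : y ∈ V.V q) (hyH : y ∈ H) (hy1 : y ≠ 1) (P : Sylow q S) (hyP : y ∈ (P : Subgroup S)) :
    H ≤ Subgroup.normalizer ((P : Subgroup S) : Set S) := by
  obtain ⟨M, hM, hHM⟩ := exists_coatom_ge V hnc hH
  obtain ⟨P', hP', rfl⟩ := exists_sylow_of_coatom V hnc hM hy (hHM hyH) hy1
  rwa [sylow_unique_of_value V hnc hy hy1 P P' hyP hP']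

/-- A nontrivial Sylow subgroup has a nontrivial central value. -/
theorem exists_central_value {q : ℕ} [Fact q.Prime] (P : Sylow q S) (hP : (P : Subgroup S) ≠ ⊥) :
    ∃ z ∈ V.V q, z ∈ (P : Subgroup S) ∧ z ≠ 1 ∧ ∀ x ∈ (P : Subgroup S), x * z = z * x := by
  classical
  set Q := (P : Subgroup S)
  have hex : ∃ i : ℕ, ∀ y ∈ V.V q, y ∈ Q.lowerCentralSeries i → y = 1 := by
    haveI : Group.IsNilpotent Q := P.isPGroup'.isNilpotent
    obtain ⟨n, hn⟩ := (Subgroup.isNilpotent_iff_lowerCentralSeries (S := Q)).mp inferInstance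
    exact ⟨n, fun y _ hy => by rwa [hn, Subgroup.mem_bot] at hy⟩
  have h0 : Nat.find hex ≠ 0 := by
    intro h
    have hs := Nat.find_spec hex
    rw [h] at hs
    exact hP ((V.gen q P).trans (Subgroup.closure_eq_bot_iff.mpr fun y hy => hs y hy.1 hy.2))
  obtain ⟨i, hi⟩ := Nat.exists_eq_succ_of_ne_zero h0
  have hmin := Nat.find_min hex (show i < Nat.find hex by omega)
  push Not at hmin
  obtain ⟨z, hz, hzi, hz1⟩ := hmin
  have hzQ : z ∈ Q := Subgroup.lowerCentralSeries_le_self Q i hzi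
  refine ⟨z, hz, hzQ, hz1, fun x hx => ?_⟩
  have h2 : ⁅z, x⁆ = 1 := by
    refine Nat.find_spec hex _ (V.comm q P z hz hzQ x hx) ?_
    rw [hi, Subgroup.lowerCentralSeries_succ]
    exact Subgroup.commutator_mem_commutator hzi hx
  exact (commutatorElement_eq_one_iff_mul_comm.mp h2).symm

theorem centralizer_ne_top {a : S} (ha : a ≠ 1) : Subgroup.centralizer ({a} : Set S) ≠ ⊤ := by
  intro h
  apply ha
  rw [← Subgroup.mem_bot, ← center_eq_bot V hnc, Subgroup.mem_center_iff]
  intro g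
  exact Subgroup.mem_centralizer_singleton_iff.mp (h ▸ Subgroup.mem_top g)

/-- Sylow subgroups are trivial-intersection subgroups. -/
theorem sylow_unique {q : ℕ} [Fact q.Prime] {a : S} (ha : a ≠ 1) (P P' : Sylow q S)
    (h : a ∈ (P : Subgroup S)) (h' : a ∈ (P' : Subgroup S)) : P = P' := by
  obtain ⟨z, hz, hzP, hz1, hzc⟩ := exists_central_value V hnc P (fun hb => ha (by simpa [hb] using h))
  obtain ⟨z', hz', hzP', hz1', hzc'⟩ :=
    exists_central_value V hnc P' (fun hb => ha (by simpa [hb] using h'))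
  have hmem : z' ∈ Subgroup.normalizer ((P : Subgroup S) : Set S) :=
    le_normalizer_of_value V hnc (centralizer_ne_top V hnc ha) hz
      (Subgroup.mem_centralizer_singleton_iff.mpr (hzc a h).symm) hz1 P hzP
      (Subgroup.mem_centralizer_singleton_iff.mpr (hzc' a h').symm)
  have hz'P := mem_of_mem_normalizer V hnc P hmem (V.orderOf_eq q Fact.out z' hz')
  exact sylow_unique_of_value V hnc hz' hz1' P P' hz'P hzP'

/-- Conjugation mapping a nontrivial element of a Sylow subgroup into it normalizes it. -/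
theorem mem_normalizer_of_conj {q : ℕ} [Fact q.Prime] {a g : S} (ha : a ≠ 1) (P : Sylow q S)
    (h : a ∈ (P : Subgroup S)) (h' : g * a * g⁻¹ ∈ (P : Subgroup S)) :
    g ∈ Subgroup.normalizer ((P : Subgroup S) : Set S) := by
  have hne : g * a * g⁻¹ ≠ 1 := by simpa using ha
  have hmem : g * a * g⁻¹ ∈ ((g • P : Sylow q S) : Subgroup S) := by
    rw [Sylow.coe_subgroup_smul]
    simpa [MulAut.smul_def] using Subgroup.smul_mem_pointwise_smul a (MulAut.conj g) _ h
  exact Sylow.smul_eq_iff_mem_normalizer.mp (sylow_unique V hnc hne (g • P) P hmem h')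

theorem isCoatom_normalizer {q : ℕ} [Fact q.Prime] (P : Sylow q S) (hP : (P : Subgroup S) ≠ ⊥) :
    IsCoatom (Subgroup.normalizer ((P : Subgroup S) : Set S)) := by
  obtain ⟨z, hz, hzP, hz1, -⟩ := exists_central_value V hnc P hP
  obtain ⟨M, hM, hle⟩ := exists_coatom_ge V hnc (normalizer_ne_top V hnc hP (sylow_ne_top V hnc P))
  have := le_normalizer_of_value V hnc hM.1 hz (hle (Subgroup.le_normalizer hzP)) hz1 P hzP
  rwa [le_antisymm hle this]

/-- The order of `S` is odd. -/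
theorem odd_card : Odd (Nat.card S) := by
  by_contra hodd
  have h2 : 2 ∣ Nat.card S := even_iff_two_dvd.mp (Nat.not_odd_iff_even.mp hodd)
  haveI : Fact (Nat.Prime 2) := ⟨Nat.prime_two⟩
  haveI : Nontrivial S := hS.toNontrivial
  obtain ⟨P⟩ : Nonempty (Sylow 2 S) := inferInstance
  set Q := (P : Subgroup S)
  have hQ : Q ≠ ⊥ := P.ne_bot_of_dvd_card h2
  haveI : Nontrivial Q := Q.nontrivial_iff_ne_bot.mpr hQ
  set Z := (Subgroup.center Q).map Q.subtype
  have hZ : Nontrivial (Subgroup.center Q) := P.isPGroup'.center_nontrivial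
  obtain ⟨t₀, ht₀⟩ : ∃ t : Subgroup.center Q, orderOf t = 2 := by
    refine exists_prime_orderOf_dvd_card' 2 ?_
    obtain ⟨n, hn⟩ := IsPGroup.iff_card.mp (P.isPGroup'.to_subgroup (Subgroup.center Q))
    rcases n with - | n
    · exact absurd (Finite.one_lt_card (α := Subgroup.center Q)) (by rw [hn]; simp)
    · exact hn ▸ dvd_pow_self 2 n.succ_ne_zero
  set t : S := ((t₀ : Q) : S) with ht
  have htQ : t ∈ Q := (t₀ : Q).2
  have htord : orderOf t = 2 := by rw [ht, Subgroup.orderOf_coe, Subgroup.orderOf_coe, ht₀]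
  have ht1 : t ≠ 1 := fun h => by rw [h, orderOf_one] at htord; omega
  have htZ : t ∈ Z := ⟨_, t₀.2, rfl⟩
  -- `t` is not isolated
  obtain ⟨g, hgP, hgt⟩ : ∃ g : S, g * t * g⁻¹ ∈ Q ∧ g * t * g⁻¹ ≠ t := by
    by_contra hcon
    push Not at hcon
    obtain ⟨N, hN, hNodd, hNc⟩ := S0215.result P t htord htQ hcon
    rcases eq_bot_or_top_of_normal V hnc hN with rfl | rfl
    · apply ht1
      rw [← Subgroup.mem_bot, ← center_eq_bot V hnc, Subgroup.mem_center_iff]
      intro g
      exact (commutatorElement_eq_one_iff_mul_comm.mp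
        (Subgroup.mem_bot.mp (hNc g) : ⁅t, g⁆ = 1)).symm
    · rw [Subgroup.card_top] at hNodd
      exact hodd hNodd
  have hgN := mem_normalizer_of_conj V hnc ht1 P htQ hgP
  have hcent : ∀ x ∈ Q, x * t = t * x := fun x hx =>
    congrArg Subtype.val (Subgroup.mem_center_iff.mp t₀.2 ⟨x, hx⟩)
  -- an element of odd order moving `t`
  set m := (orderOf g).factorization 2
  set c := g ^ (2 ^ m) with hc
  have hg0 : orderOf g ≠ 0 := (orderOf_pos g).ne'
  have hcord : orderOf c = orderOf g / 2 ^ m :=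
    orderOf_pow_of_dvd (by positivity) (Nat.ordProj_dvd _ _)
  have hcodd : Odd (orderOf c) := by
    rw [hcord, Nat.odd_iff]
    exact Nat.two_dvd_ne_zero.mp (Nat.not_dvd_ordCompl Nat.prime_two hg0)
  have hcmov : c * t * c⁻¹ ≠ t := by
    intro hct
    apply hgt
    have h1 : g ^ (2 ^ m) ∈ Subgroup.centralizer ({t} : Set S) :=
      Subgroup.mem_centralizer_singleton_iff.mpr (mul_inv_eq_iff_eq_mul.mp hct)
    have h2' : g ^ (orderOf g / 2 ^ m) ∈ Subgroup.centralizer ({t} : Set S) := by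
      refine Subgroup.mem_centralizer_singleton_iff.mpr (hcent _ ?_)
      refine mem_of_mem_normalizer V hnc P (pow_mem hgN _) ⟨m, ?_⟩
      rw [orderOf_pow_of_dvd ?_ (Nat.div_dvd_of_dvd (Nat.ordProj_dvd _ _)),
        Nat.div_div_self (Nat.ordProj_dvd _ _) hg0]
      exact (Nat.div_pos (Nat.ordProj_le 2 hg0) (by positivity)).ne'
    have hco : (2 ^ m).Coprime (orderOf g / 2 ^ m) :=
      (Nat.coprime_ordCompl Nat.prime_two hg0).pow_left _
    have hgc : g ∈ Subgroup.centralizer ({t} : Set S) := by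
      have : g = (g ^ (2 ^ m)) ^ (Nat.gcdA (2 ^ m) (orderOf g / 2 ^ m)) *
          (g ^ (orderOf g / 2 ^ m)) ^ (Nat.gcdB (2 ^ m) (orderOf g / 2 ^ m)) := by
        rw [← zpow_natCast g (2 ^ m), ← zpow_natCast g (orderOf g / 2 ^ m), ← zpow_mul, ← zpow_mul,
          ← zpow_add, ← Nat.gcd_eq_gcd_ab, hco.gcd_eq_one, Nat.cast_one, zpow_one]
      rw [this]
      exact mul_mem (zpow_mem h1 _) (zpow_mem h2' _)
    rw [Subgroup.mem_centralizer_singleton_iff.mp hgc, mul_inv_cancel_right]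
  -- the elementary abelian subgroup
  have hZmem : ∀ a ∈ Z, a ∈ Q ∧ ∀ x ∈ Q, x * a = a * x := by
    rintro _ ⟨a, ha, rfl⟩
    exact ⟨a.2, fun x hx => congrArg Subtype.val (Subgroup.mem_center_iff.mp ha ⟨x, hx⟩)⟩
  let E : Subgroup S :=
    { carrier := {a | a ∈ Z ∧ a * a = 1}
      one_mem' := ⟨Z.one_mem, one_mul 1⟩
      mul_mem' := by
        rintro a b ⟨ha, ha2⟩ ⟨hb, hb2⟩
        refine ⟨Z.mul_mem ha hb, ?_⟩
        have hba : b * a = a * b := (hZmem a ha).2 b (hZmem b hb).1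
        calc a * b * (a * b) = a * (b * a) * b := by group
          _ = a * a * (b * b) := by rw [hba]; group
          _ = 1 := by rw [ha2, hb2, one_mul]
      inv_mem' := by
        rintro a ⟨ha, ha2⟩
        exact ⟨Z.inv_mem ha, by rw [← mul_inv_rev, ha2, inv_one]⟩ }
  have hEc : ∀ x ∈ Subgroup.normalizer (Q : Set S), ∀ a ∈ E, x * a * x⁻¹ ∈ E := by
    intro x hx a ha
    obtain ⟨haQ, hac⟩ := hZmem a ha.1
    have hmem : x * a * x⁻¹ ∈ Q := (Subgroup.mem_normalizer_iff.mp hx a).mp haQ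
    refine ⟨⟨⟨_, hmem⟩, Subgroup.mem_center_iff.mpr fun y => Subtype.ext ?_, rfl⟩, ?_⟩
    · show (y : S) * (x * a * x⁻¹) = x * a * x⁻¹ * y
      have := hac _ ((Subgroup.mem_normalizer_iff.mp (inv_mem hx) y).mp y.2)
      calc (y : S) * (x * a * x⁻¹) = x * (x⁻¹ * y * x⁻¹⁻¹ * a) * x⁻¹ := by group
        _ = x * (a * (x⁻¹ * y * x⁻¹⁻¹)) * x⁻¹ := by rw [this]
        _ = x * a * x⁻¹ * y := by group
    · calc x * a * x⁻¹ * (x * a * x⁻¹) = x * (a * a) * x⁻¹ := by group
        _ = 1 := by rw [ha.2, mul_one, mul_inv_cancel]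
  have hcN : c ∈ Subgroup.normalizer (Q : Set S) := pow_mem hgN _
  have hcE : c ∈ Subgroup.normalizer (E : Set S) := by
    rw [Subgroup.mem_normalizer_iff]
    refine fun a => ⟨hEc c hcN a, fun ha => ?_⟩
    have := hEc c⁻¹ (inv_mem hcN) _ ha
    simpa [mul_assoc] using this
  obtain ⟨v, hv, hvE, hv1⟩ := V.invol E (fun a ha => ha.2) c hcodd hcE t
    ⟨htZ, by rw [← pow_two, ← htord, pow_orderOf_eq_one]⟩ hcmov
  have hvQ : v ∈ Q := (hZmem v hvE.1).1
  have hv2 : v * v = 1 := hvE.2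
  set X := Subgroup.zpowers v with hX
  have hXQ : X ≤ Q := Subgroup.zpowers_le.mpr hvQ
  have hXp : IsPGroup 2 X := P.isPGroup'.to_le hXQ
  obtain ⟨g', hg'⟩ : ∃ g' : S, ¬ IsPGroup 2 ↥(X ⊔ X.map (MulAut.conj g').toMonoidHom) := by
    by_contra hcon
    push Not at hcon
    obtain ⟨N, hN, hNp, hXN⟩ := S0199.result X hXp hcon
    rcases eq_bot_or_top_of_normal V hnc hN with rfl | rfl
    · exact hv1 (Subgroup.mem_bot.mp (hXN (Subgroup.mem_zpowers v)))
    · exact sylow_ne_top V hnc P (P.is_maximal' hNp le_top).symm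
  obtain ⟨w, hw⟩ : ∃ w : S, w = g' * v * g'⁻¹ := ⟨_, rfl⟩
  have hH : X ⊔ X.map (MulAut.conj g').toMonoidHom = Subgroup.zpowers v ⊔ Subgroup.zpowers w := by
    rw [hX, MonoidHom.map_zpowers, hw]
    rfl
  have hw2 : w * w = 1 := by
    calc w * w = g' * (v * v) * g'⁻¹ := by rw [hw]; group
      _ = 1 := by rw [hv2, mul_one, mul_inv_cancel]
  set H := Subgroup.zpowers v ⊔ Subgroup.zpowers w with hHdef
  have hHne : H ≠ ⊤ := by
    intro hHtop
    set Y := Subgroup.zpowers (v * w)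
    have hvi : v⁻¹ = v := inv_eq_of_mul_eq_one_right hv2
    have hwi : w⁻¹ = w := inv_eq_of_mul_eq_one_right hw2
    have hstab : ∀ u : S, u * (v * w) * u⁻¹ = (v * w)⁻¹ → u ∈ Subgroup.normalizer (Y : Set S) := by
      intro u hu
      have : Y.map (MulAut.conj u).toMonoidHom = Y := by
        rw [MonoidHom.map_zpowers]
        show Subgroup.zpowers (u * (v * w) * u⁻¹) = Y
        rw [hu, Subgroup.zpowers_inv]
      rw [Subgroup.mem_normalizer_iff]
      intro x
      conv_rhs => rw [← this]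
      rw [Subgroup.mem_map_equiv]
      simp [mul_assoc]
    have hYn : Y.Normal := by
      rw [← Subgroup.normalizer_eq_top_iff, ← top_le_iff, ← hHtop, hHdef, sup_le_iff,
        Subgroup.zpowers_le, Subgroup.zpowers_le]
      constructor
      · refine hstab v ?_
        rw [mul_inv_rev, hwi, hvi, ← mul_assoc, hv2, one_mul]
      · refine hstab w ?_
        rw [mul_inv_rev, hwi, hvi, mul_assoc, mul_assoc, hw2, mul_one]
    rcases eq_bot_or_top_of_normal V hnc hYn with hY | hY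
    · have hvw : w = v := by
        have := eq_inv_of_mul_eq_one_right (Subgroup.zpowers_eq_bot.mp hY)
        rwa [hvi] at this
      apply hg'
      rw [hH, hHdef, hvw, sup_idem]
      exact hXp
    · obtain ⟨a, b, hab⟩ := hnc
      apply hab
      obtain ⟨i, rfl⟩ := (Subgroup.mem_zpowers_iff.mp (hY ▸ Subgroup.mem_top a : a ∈ Y))
      obtain ⟨j, rfl⟩ := (Subgroup.mem_zpowers_iff.mp (hY ▸ Subgroup.mem_top b : b ∈ Y))
      rw [← zpow_add, ← zpow_add, add_comm]
  apply hg'
  rw [hH]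
  refine P.isPGroup'.to_le (sup_le hXQ (Subgroup.zpowers_le.mpr ?_))
  refine mem_of_mem_normalizer V hnc P (le_normalizer_of_value V hnc hHne hv
    (Subgroup.mem_sup_left (Subgroup.mem_zpowers v)) hv1 P hvQ
    (Subgroup.mem_sup_right (Subgroup.mem_zpowers w))) ?_
  obtain ⟨i, -, hi⟩ := (Nat.dvd_prime_pow Nat.prime_two (m := 1)).mp
    (orderOf_dvd_of_pow_eq_one (by rw [pow_one, pow_two, hw2]) : orderOf w ∣ 2 ^ 1)
  exact ⟨i, hi⟩

end ValSys

end Cfsg.Agent.CommVal
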