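/-
The odd order case: either all centralizers are nilpotent, or a count of elements gives more
elements than the group has.
-/
import Cfsg.Agent.CommVal.Simple
import Cfsg.Agent.Core.CoprimeAction
import Cfsg.Agent.S0183

set_option linter.unusedSectionVars false
set_option linter.style.haveILetI false
set_option autoImplicit false

namespace Cfsg.Agent.CommVal

open scoped commutatorElement

universe u

variable {S : Type u} [Group S]

theorem exists_part [Finite S] {g : S} (hg : g ≠ 1) :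
    ∃ (q : ℕ) (c : S), q.Prime ∧ c ∈ Subgroup.zpowers g ∧ (∃ m, orderOf c = q ^ m) ∧ c ≠ 1 := by
  by_contra h
  push Not at h
  exact hg (Subgroup.mem_bot.mp (mem_of_parts ⊥ _ g rfl fun c hc q hq ⟨m, hm⟩ =>
    Subgroup.mem_bot.mpr (h q c hq hc ⟨m, hm⟩)))

theorem exists_sylow_mem [Finite S] {q : ℕ} [Fact q.Prime] {c : S} (h : ∃ m, orderOf c = q ^ m) :
    ∃ P : Sylow q S, c ∈ (P : Subgroup S) := by
  obtain ⟨m, hm⟩ := h
  obtain ⟨P, hP⟩ := (IsPGroup.of_card (p := q) (G := Subgroup.zpowers c) (n := m)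
    (by rw [Nat.card_zpowers, hm])).exists_le_sylow
  exact ⟨P, hP (Subgroup.mem_zpowers c)⟩

/-- Counting conjugates. -/
theorem card_mul_le [Fintype S] [DecidableEq S] (X : Finset S) (H : Subgroup S)
    (h : ∀ g : S, ∀ w ∈ X, g * w * g⁻¹ ∈ X → g ∈ H) :
    Fintype.card S * X.card ≤
      ((Finset.univ ×ˢ X).image fun p => p.1 * p.2 * p.1⁻¹).card * Nat.card H := by
  classical
  rw [← Finset.card_univ, ← Finset.card_product, mul_comm _ (Nat.card H)]
  refine Finset.card_le_mul_card_image _ _ fun b hb => ?_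
  rw [Finset.mem_image] at hb
  obtain ⟨⟨g₀, w₀⟩, hmem, rfl⟩ := hb
  simp only [Finset.mem_product, Finset.mem_univ, true_and] at hmem
  rw [← Set.ncard_coe_finset]
  show _ ≤ Nat.card (H : Set S)
  rw [Nat.card_coe_set_eq]
  refine Set.ncard_le_ncard_of_injOn (fun p : S × S => g₀⁻¹ * p.1) ?_ ?_ (Set.toFinite _)
  · rintro ⟨g, w⟩ hp
    simp only [Finset.coe_filter, Finset.mem_product, Finset.mem_univ, true_and,
      Set.mem_setOf_eq] at hp
    refine h _ w hp.1 ?_
    have : g₀⁻¹ * g * w * (g₀⁻¹ * g)⁻¹ = g₀⁻¹ * (g * w * g⁻¹) * g₀ := by group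
    rw [this, hp.2]
    simpa [mul_assoc] using hmem
  · rintro ⟨g, w⟩ hp ⟨g', w'⟩ hp' he
    simp only [Finset.coe_filter, Finset.mem_product, Finset.mem_univ, true_and,
      Set.mem_setOf_eq] at hp hp'
    obtain rfl : g = g' := mul_left_cancel he
    have := hp.2.trans hp'.2.symm
    simpa using this

namespace ValSys

variable [Finite S] [hS : IsSimpleGroup S] (V : ValSys S) (hnc : ∃ a b : S, a * b ≠ b * a)

/-- The subgroup `F(M)`, as a subgroup of the whole group. -/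
def fitIn (M : Subgroup S) : Subgroup S := (Cfsg.fittingSubgroup M).map M.subtype

/-- The maximal subgroups occurring as normalizers of Sylow subgroups. -/
def IsSylowNormalizer (M : Subgroup S) : Prop :=
  ∃ (q : ℕ) (_ : Fact q.Prime) (P : Sylow q S),
    (P : Subgroup S) ≠ ⊥ ∧ M = Subgroup.normalizer ((P : Subgroup S) : Set S)

include V hnc

theorem isCoatom_of_isSylowNormalizer {M : Subgroup S} (h : IsSylowNormalizer M) : IsCoatom M := by
  obtain ⟨q, _, P, hP, rfl⟩ := h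
  exact isCoatom_normalizer V hnc P hP

theorem fitIn_le (M : Subgroup S) : fitIn M ≤ M := Subgroup.map_subtype_le _

theorem conj_mem_fitIn {M : Subgroup S} {m a : S} (hm : m ∈ M) (ha : a ∈ fitIn M) :
    m * a * m⁻¹ ∈ fitIn M := by
  obtain ⟨a', ha', rfl⟩ := ha
  haveI : (Cfsg.fittingSubgroup M).Normal := inferInstance
  exact ⟨_, Subgroup.Normal.conj_mem (inferInstance : (Cfsg.fittingSubgroup M).Normal) a' ha' ⟨m, hm⟩, rfl⟩

theorem sylow_le_fitIn {q : ℕ} [Fact q.Prime] (P : Sylow q S) :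
    (P : Subgroup S) ≤ fitIn (Subgroup.normalizer ((P : Subgroup S) : Set S)) := by
  intro a ha
  refine ⟨⟨a, Subgroup.le_normalizer ha⟩, ?_, rfl⟩
  refine Core.le_fittingSubgroup (N := (P : Subgroup S).subgroupOf _)
    Subgroup.normal_in_normalizer ?_ ha
  exact (IsPGroup.comap_subtype P.isPGroup').isNilpotent

/-- A prime power element of `F(M)` determines `M`. -/
theorem eq_normalizer_of_mem_fitIn {M : Subgroup S} (hM : IsSylowNormalizer M) {q : ℕ}
    [hq : Fact q.Prime] {a : S} (ha : a ∈ fitIn M) (ha1 : a ≠ 1) (T : Sylow q S)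
    (haT : a ∈ (T : Subgroup S)) : M = Subgroup.normalizer ((T : Subgroup S) : Set S) := by
  obtain ⟨b, hb, rfl⟩ := ha
  set F := Cfsg.fittingSubgroup M
  haveI : Group.IsNilpotent F := Core.isNilpotent_fittingSubgroup M
  have hbq : ∃ m, orderOf (⟨b, hb⟩ : F) = q ^ m := by
    obtain ⟨m, hm⟩ := IsPGroup.iff_orderOf.mp T.isPGroup' ⟨_, haT⟩
    exact ⟨m, by simpa using hm⟩
  obtain ⟨R, hR⟩ := exists_sylow_mem hbq
  have hbO : b ∈ Cfsg.pCore q M := by
    rw [← Core.pCore_eq_sylow R] at hR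
    exact ((Core.map_pCore_subtype q F).le ⟨_, hR, rfl⟩).1
  set O := (Cfsg.pCore q M).map M.subtype
  obtain ⟨T', hT'⟩ := ((Core.isPGroup_pCore q M).map M.subtype).exists_le_sylow
  have hbT' : (b : S) ∈ (T' : Subgroup S) := hT' ⟨b, hbO, rfl⟩
  obtain rfl := sylow_unique V hnc ha1 T' T hbT' haT
  have hle : M ≤ Subgroup.normalizer ((T' : Subgroup S) : Set S) := fun m hm =>
    mem_normalizer_of_conj V hnc ha1 T' hbT' (hT' ⟨_,
      Subgroup.Normal.conj_mem (inferInstance : (Cfsg.pCore q M).Normal) b hbO ⟨m, hm⟩, rfl⟩)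
  rcases hle.eq_or_lt with h | h
  · exact h
  · refine absurd ((isCoatom_of_isSylowNormalizer V hnc hM).2 _ h) ?_
    refine normalizer_ne_top V hnc ?_ (sylow_ne_top V hnc T')
    exact fun hb => ha1 (by simpa [hb] using hbT')

theorem eq_of_mem_fitIn {M M' : Subgroup S} (hM : IsSylowNormalizer M) (hM' : IsSylowNormalizer M')
    {a : S} (ha : a ∈ fitIn M) (ha' : a ∈ fitIn M') (ha1 : a ≠ 1) : M = M' := by
  obtain ⟨q, c, hq, hc, hcq, hc1⟩ := exists_part ha1
  haveI : Fact q.Prime := ⟨hq⟩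
  obtain ⟨T, hT⟩ := exists_sylow_mem hcq
  rw [eq_normalizer_of_mem_fitIn V hnc hM (Subgroup.zpowers_le.mpr ha hc) hc1 T hT,
    eq_normalizer_of_mem_fitIn V hnc hM' (Subgroup.zpowers_le.mpr ha' hc) hc1 T hT]

/-- The normalizer attached to a prime-power element, with its properties. -/
theorem exists_normalizer {q : ℕ} [Fact q.Prime] {c : S} (hcq : ∃ m, orderOf c = q ^ m)
    (hc1 : c ≠ 1) : ∃ (T : Sylow q S) (N : Subgroup S), c ∈ (T : Subgroup S) ∧
      N = Subgroup.normalizer ((T : Subgroup S) : Set S) ∧ IsSylowNormalizer N ∧ c ∈ fitIn N := by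
  obtain ⟨T, hT⟩ := exists_sylow_mem hcq
  refine ⟨T, _, hT, rfl, ⟨q, inferInstance, T, ?_, rfl⟩, sylow_le_fitIn V hnc T hT⟩
  exact fun hb => hc1 (by simpa [hb] using hT)

theorem conj_zpowers_mem {a g c : S} {A : Subgroup S} (hc : c ∈ Subgroup.zpowers a)
    (h : g * a * g⁻¹ ∈ A) : g * c * g⁻¹ ∈ A := by
  obtain ⟨i, rfl⟩ := Subgroup.mem_zpowers_iff.mp hc
  have := map_zpow (MulAut.conj g).toMonoidHom a i
  simp only [MulEquiv.coe_toMonoidHom, MulAut.conj_apply] at this
  rw [this]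
  exact zpow_mem h i

/-- `F(M)` is a trivial intersection set. -/
theorem mem_of_conj_fitIn {M : Subgroup S} (hM : IsSylowNormalizer M) {a g : S}
    (ha : a ∈ fitIn M) (ha1 : a ≠ 1) (hg : g * a * g⁻¹ ∈ fitIn M) : g ∈ M := by
  obtain ⟨q, c, hq, hc, hcq, hc1⟩ := exists_part ha1
  haveI : Fact q.Prime := ⟨hq⟩
  obtain ⟨T, hT⟩ := exists_sylow_mem hcq
  have h1 := eq_normalizer_of_mem_fitIn V hnc hM (Subgroup.zpowers_le.mpr ha hc) hc1 T hT
  have hc' : g * c * g⁻¹ ∈ M := fitIn_le V hnc M (conj_zpowers_mem V hnc hc hg)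
  rw [h1] at hc' ⊢
  refine mem_normalizer_of_conj V hnc hc1 T hT (mem_of_mem_normalizer V hnc T hc' ?_)
  obtain ⟨m, hm⟩ := hcq
  exact ⟨m, by rw [← hm]; exact orderOf_injective (MulAut.conj g).toMonoidHom (MulAut.conj g).injective c⟩

/-- Two classes are linked when each Fitting subgroup meets the other maximal subgroup. -/
def Linked (M M' : Subgroup S) : Prop :=
  IsSylowNormalizer M ∧ IsSylowNormalizer M' ∧ M ≠ M' ∧
    (∃ a ∈ fitIn M, a ∈ M' ∧ a ≠ 1) ∧ ∃ x ∈ fitIn M', x ∈ M ∧ x ≠ 1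

theorem commute_of_coprime {M M' : Subgroup S} (h : Linked M M') {g k : S} (hg : g ∈ M ⊓ M')
    (hk : k ∈ M ⊓ M') (hco : (orderOf g).Coprime (orderOf k)) : Commute g k := by
  obtain ⟨hM, hM', hne, -, -⟩ := h
  refine commutatorElement_eq_one_iff_commute.mp (by_contra fun h1 => hne ?_)
  exact eq_of_mem_fitIn V hnc hM hM'
    (V.comm_fitting M (isCoatom_of_isSylowNormalizer V hnc hM).1 g hg.1 k hk.1 hco)
    (V.comm_fitting M' (isCoatom_of_isSylowNormalizer V hnc hM').1 g hg.2 k hk.2 hco) h1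

/-- The intersection of two linked subgroups normalizes every Sylow subgroup it meets. -/
theorem inf_le_normalizer {M M' : Subgroup S} (h : Linked M M') {q : ℕ} [hq : Fact q.Prime]
    {c : S} (hc : c ∈ M ⊓ M') (hc1 : c ≠ 1) (T : Sylow q S) (hcT : c ∈ (T : Subgroup S)) :
    M ⊓ M' ≤ Subgroup.normalizer ((T : Subgroup S) : Set S) := by
  set D := M ⊓ M'
  obtain ⟨m, hm⟩ := IsPGroup.iff_orderOf.mp T.isPGroup' ⟨c, hcT⟩
  rw [Subgroup.orderOf_mk] at hm
  obtain ⟨P, hP⟩ := exists_sylow_mem (S := D) (q := q) (c := ⟨c, hc⟩) ⟨m, by simpa using hm⟩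
  obtain ⟨T', hT'⟩ := (P.isPGroup'.map D.subtype).exists_le_sylow
  have hcT' : c ∈ (T' : Subgroup S) := hT' ⟨_, hP, rfl⟩
  obtain rfl := sylow_unique V hnc hc1 T' T hcT' hcT
  rw [← Subgroup.subgroupOf_eq_top, ← top_le_iff, ← Core.sylow_sup_pResidual P, sup_le_iff]
  constructor
  · rintro z hz
    exact Subgroup.le_normalizer (hT' ⟨z, hz, rfl⟩)
  · refine (Subgroup.closure_le _).mpr ?_
    rintro ⟨z, hzD⟩ hz
    refine mem_normalizer_of_conj V hnc hc1 T' hcT' ?_
    have hz' : (orderOf z).Coprime q := by simpa using hz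
    have hco : (orderOf z).Coprime (orderOf c) := hm ▸ hz'.pow_right m
    show z * c * z⁻¹ ∈ _
    rwa [(commute_of_coprime V hnc h hzD hc hco).eq, mul_inv_cancel_right]

/-- `M = F(M) (M ∩ M')`. -/
theorem le_sup_inf {M M' : Subgroup S} (h : Linked M M') : M ≤ fitIn M ⊔ M ⊓ M' := by
  obtain ⟨hM, hM', hne, -, x₀, hx₀, hx₀M, hx₀1⟩ := h
  obtain ⟨r, x, hr, hx, hxr, hx1⟩ := exists_part hx₀1
  haveI : Fact r.Prime := ⟨hr⟩
  have hxF : x ∈ fitIn M' := Subgroup.zpowers_le.mpr hx₀ hx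
  have hxM : x ∈ M := Subgroup.zpowers_le.mpr hx₀M hx
  obtain ⟨R, hR⟩ := exists_sylow_mem hxr
  have hM'R := eq_normalizer_of_mem_fitIn V hnc hM' hxF hx1 R hR
  set A := fitIn M
  have hMA : M ≤ Subgroup.normalizer (A : Set S) := fun m hm => by
    rw [Subgroup.mem_normalizer_iff]
    refine fun a => ⟨conj_mem_fitIn V hnc hm, fun ha => ?_⟩
    simpa [mul_assoc] using conj_mem_fitIn V hnc (inv_mem hm) ha
  have hcoA : (Nat.card (Subgroup.zpowers x)).Coprime (Nat.card A) := by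
    obtain ⟨m, hm⟩ := hxr
    rw [Nat.card_zpowers, hm]
    refine Nat.Coprime.pow_left _ ((Nat.Prime.coprime_iff_not_dvd hr).mpr fun hd => hne ?_)
    obtain ⟨⟨b, hbA⟩, hb⟩ := exists_prime_orderOf_dvd_card' r hd
    rw [Subgroup.orderOf_mk] at hb
    have hb1 : b ≠ 1 := fun e => by rw [e, orderOf_one] at hb; exact hr.one_lt.ne hb
    obtain ⟨R', hR'⟩ := exists_sylow_mem (q := r) (c := b) ⟨1, by rw [hb, pow_one]⟩
    have hMR' := eq_normalizer_of_mem_fitIn V hnc hM hbA hb1 R' hR'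
    have hxR' : x ∈ (R' : Subgroup S) := mem_of_mem_normalizer V hnc R' (hMR' ▸ hxM) ⟨m, hm⟩
    rw [hMR', hM'R, sylow_unique V hnc hx1 R' R hxR' hR]
  obtain ⟨P, hP⟩ := exists_sylow_mem (S := M) (q := r) (c := ⟨x, hxM⟩) (by simpa using hxr)
  obtain ⟨R', hR'⟩ := (P.isPGroup'.map M.subtype).exists_le_sylow
  obtain rfl := sylow_unique V hnc hx1 R' R (hR' ⟨_, hP, rfl⟩) hR
  rw [← Subgroup.subgroupOf_eq_top, ← top_le_iff, ← Core.sylow_sup_pResidual P, sup_le_iff]
  constructor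
  · intro z hz
    refine Subgroup.mem_sup_right (S := A) ⟨z.2, ?_⟩
    rw [hM'R]
    exact Subgroup.le_normalizer (hR' ⟨z, hz, rfl⟩)
  · refine (Subgroup.closure_le _).mpr ?_
    rintro ⟨z, hzM⟩ hz
    have hz' : (orderOf z).Coprime r := by simpa using hz
    have hcomm : ⁅z, x⁆ ∈ A := by
      obtain ⟨m, hm⟩ := hxr
      exact V.comm_fitting M (isCoatom_of_isSylowNormalizer V hnc hM).1 z hzM x hxM
        (hm ▸ hz'.pow_right m)
    have hxY : (Subgroup.zpowers x).map (MulAut.conj z).toMonoidHom ≤ A ⊔ Subgroup.zpowers x := by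
      rw [MonoidHom.map_zpowers, Subgroup.zpowers_le]
      show z * x * z⁻¹ ∈ _
      rw [show z * x * z⁻¹ = ⁅z, x⁆ * x by simp [commutatorElement_def]]
      exact Subgroup.mul_mem_sup hcomm (Subgroup.mem_zpowers x)
    obtain ⟨n, hn, hne'⟩ := Core.exists_conj_complement_general A (Subgroup.zpowers x)
      ((Subgroup.zpowers x).map (MulAut.conj z).toMonoidHom)
      (Or.inl inferInstance) ((Subgroup.zpowers_le.mpr hxM).trans hMA) hxY
      (Coprime.card_map_conj _ _) hcoA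
    have hmem : (n⁻¹ * z) * x * (n⁻¹ * z)⁻¹ ∈ Subgroup.zpowers x := by
      have : z * x * z⁻¹ ∈ (Subgroup.zpowers x).map (MulAut.conj n).toMonoidHom :=
        hne' ▸ ⟨x, Subgroup.mem_zpowers x, rfl⟩
      obtain ⟨w, hw, hwe⟩ := this
      change n * w * n⁻¹ = z * x * z⁻¹ at hwe
      have hw' : (n⁻¹ * z) * x * (n⁻¹ * z)⁻¹ = w := by
        calc (n⁻¹ * z) * x * (n⁻¹ * z)⁻¹ = n⁻¹ * (z * x * z⁻¹) * n := by group
          _ = w := by rw [← hwe]; group
      rwa [hw']
    have hnz : n⁻¹ * z ∈ M ⊓ M' := by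
      refine ⟨M.mul_mem (M.inv_mem (fitIn_le V hnc M hn)) hzM, ?_⟩
      rw [hM'R]
      exact mem_normalizer_of_conj V hnc hx1 _ hR (Subgroup.zpowers_le.mpr hR hmem)
    show z ∈ A ⊔ M ⊓ M'
    simpa using Subgroup.mul_mem_sup hn hnz

/-- Without linked pairs the centralizers of nontrivial elements are nilpotent. -/
theorem isCNGroup (hno : ¬ ∃ M M' : Subgroup S, Linked M M') : Cfsg.IsCNGroup S := by
  intro g hg
  obtain ⟨q, a, hq, ha, haq, ha1⟩ := exists_part hg
  haveI : Fact q.Prime := ⟨hq⟩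
  obtain ⟨T, M, haT, hMT, hM, haM⟩ := exists_normalizer V hnc haq ha1
  have hle : ∀ h ∈ Subgroup.centralizer ({g} : Set S), Commute h a ∧ h ∈ M := by
    intro h hh
    have hga : Commute h a := by
      obtain ⟨i, rfl⟩ := Subgroup.mem_zpowers_iff.mp ha
      exact (Subgroup.mem_centralizer_singleton_iff.mp hh : h * g = g * h) |> fun e =>
        (Commute.zpow_right e i)
    refine ⟨hga, hMT ▸ mem_normalizer_of_conj V hnc ha1 T haT ?_⟩
    rwa [hga.eq, mul_inv_cancel_right]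
  have hle' : Subgroup.centralizer ({g} : Set S) ≤ fitIn M := by
    intro h hh
    refine mem_of_parts _ _ h rfl fun d hd r hr hdr => ?_
    by_cases hd1 : d = 1
    · rw [hd1]; exact one_mem _
    haveI : Fact r.Prime := ⟨hr⟩
    obtain ⟨R, N, hdR, hNR, hN, hdN⟩ := exists_normalizer V hnc hdr hd1
    obtain ⟨hda, hdM⟩ := hle d (Subgroup.zpowers_le.mpr hh hd)
    by_cases hMN : M = N
    · exact hMN ▸ hdN
    refine absurd ⟨M, N, hM, hN, hMN, ⟨a, haM, ?_, ha1⟩, d, hdN, hdM, hd1⟩ hno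
    rw [hNR]
    refine mem_normalizer_of_conj V hnc hd1 R hdR ?_
    rwa [hda.symm.eq, mul_inv_cancel_right]
  refine Core.isNilpotent_of_le hle' ?_
  exact Core.isNilpotent_map (Core.isNilpotent_fittingSubgroup M) _

/-- There are no linked pairs. -/
theorem not_linked (hodd : Odd (Nat.card S)) {M M' : Subgroup S} (h : Linked M M') : False := by
  classical
  haveI : Fintype S := Fintype.ofFinite S
  set D := M ⊓ M' with hD
  set P : Subgroup S → Prop := fun N => IsSylowNormalizer N ∧ ∃ c ∈ fitIn N, c ∈ D ∧ c ≠ 1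
  have hP_M : P M := by
    obtain ⟨hM, -, -, ⟨a, ha, haM', ha1⟩, -⟩ := h
    exact ⟨hM, a, ha, ⟨fitIn_le V hnc M ha, haM'⟩, ha1⟩
  have hP_M' : P M' := by
    obtain ⟨-, hM', -, -, x, hx, hxM, hx1⟩ := h
    exact ⟨hM', x, hx, ⟨hxM, fitIn_le V hnc M' hx⟩, hx1⟩
  have hne : M ≠ M' := h.2.2.1
  -- prime power witnesses
  have hwit : ∀ N, P N → ∃ (q : ℕ) (_ : Fact q.Prime) (T : Sylow q S) (c : S), c ∈ fitIn N ∧
      c ∈ D ∧ c ≠ 1 ∧ c ∈ (T : Subgroup S) ∧ N = Subgroup.normalizer ((T : Subgroup S) : Set S) := by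
    rintro N ⟨hN, b, hb, hbD, hb1⟩
    obtain ⟨q, c, hq, hc, hcq, hc1⟩ := exists_part hb1
    haveI : Fact q.Prime := ⟨hq⟩
    obtain ⟨T, hT⟩ := exists_sylow_mem hcq
    have hcF := Subgroup.zpowers_le.mpr hb hc
    exact ⟨q, inferInstance, T, c, hcF, Subgroup.zpowers_le.mpr hbD hc, hc1, hT,
      eq_normalizer_of_mem_fitIn V hnc hN hcF hc1 T hT⟩
  have hDle : ∀ N, P N → D ≤ N := by
    intro N hN
    obtain ⟨q, hq, T, c, -, hcD, hc1, hcT, rfl⟩ := hwit N hN
    exact inf_le_normalizer V hnc h hcD hc1 T hcT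
  have hlink : ∀ N N', P N → P N' → N ≠ N' → Linked N N' ∧ N ⊓ N' = D := by
    intro N N' hN hN' hNN'
    obtain ⟨b, hb, hbD, hb1⟩ := hN.2
    obtain ⟨b', hb', hbD', hb1'⟩ := hN'.2
    have hL : Linked N N' :=
      ⟨hN.1, hN'.1, hNN', ⟨b, hb, hDle N' hN' hbD, hb1⟩, b', hb', hDle N hN hbD', hb1'⟩
    refine ⟨hL, le_antisymm (le_inf ?_ ?_) (le_inf (hDle N hN) (hDle N' hN'))⟩
    · obtain ⟨q, hq, T, c, -, hcD, hc1, hcT, hMT⟩ := hwit M hP_M
      rw [hMT]
      exact inf_le_normalizer V hnc hL ⟨hDle N hN hcD, hDle N' hN' hcD⟩ hc1 T hcT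
    · obtain ⟨q, hq, T, c, -, hcD, hc1, hcT, hMT⟩ := hwit M' hP_M'
      rw [hMT]
      exact inf_le_normalizer V hnc hL ⟨hDle N hN hcD, hDle N' hN' hcD⟩ hc1 T hcT
  have hcross : ∀ N N', P N → P N' → ∀ a g : S, a ∈ fitIn N → a ≠ 1 → g * a * g⁻¹ ∈ fitIn N' →
      N = N' := by
    intro N N' hN hN' a g ha ha1 hga
    obtain ⟨q, c, hq, hc, hcq, hc1⟩ := exists_part ha1
    haveI : Fact q.Prime := ⟨hq⟩
    obtain ⟨T, hT⟩ := exists_sylow_mem hcq
    have hNT := eq_normalizer_of_mem_fitIn V hnc hN.1 (Subgroup.zpowers_le.mpr ha hc) hc1 T hT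
    have hsm : ∀ {r : ℕ} [Fact r.Prime] (R : Sylow r S) (z : S), z ∈ (R : Subgroup S) →
        g * z * g⁻¹ ∈ ((g • R : Sylow r S) : Subgroup S) := by
      intro r _ R z hz
      rw [Sylow.coe_subgroup_smul]
      simpa [MulAut.smul_def] using Subgroup.smul_mem_pointwise_smul z (MulAut.conj g) _ hz
    have hN'T := eq_normalizer_of_mem_fitIn V hnc hN'.1 (conj_zpowers_mem V hnc hc hga)
      (by simpa using hc1) (g • T) (hsm T c hT)
    have hnorm : ∀ {r : ℕ} [Fact r.Prime] (R : Sylow r S) (z : S),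
        z ∈ Subgroup.normalizer (((g • R : Sylow r S) : Subgroup S) : Set S) ↔
          g⁻¹ * z * g ∈ Subgroup.normalizer ((R : Subgroup S) : Set S) := by
      intro r _ R z
      have e : ∀ (R : Sylow r S) (z : S),
          z ∈ Subgroup.normalizer ((R : Subgroup S) : Set S) ↔ z • R = R :=
        fun R z => Sylow.smul_eq_iff_mem_normalizer.symm
      rw [e, e, mul_smul, mul_smul, inv_smul_eq_iff]
    obtain ⟨r, hr, R, d, hdN, hdD, hd1, hdR, hNR⟩ := hwit N hN
    have hN'R : N' = Subgroup.normalizer (((g • R : Sylow r S) : Subgroup S) : Set S) := by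
      ext z
      rw [hN'T, hnorm, hnorm, ← hNT, ← hNR]
    have hdgR : d ∈ ((g • R : Sylow r S) : Subgroup S) := by
      refine mem_of_mem_normalizer V hnc (g • R) (hN'R ▸ hDle N' hN' hdD) ?_
      obtain ⟨m, hm⟩ := IsPGroup.iff_orderOf.mp R.isPGroup' ⟨d, hdR⟩
      exact ⟨m, by rwa [Subgroup.orderOf_mk] at hm⟩
    rw [hNR, hN'R, sylow_unique V hnc hd1 (g • R) R hdgR hdR]
  -- the finite sets
  set I : Finset (Subgroup S) := Finset.univ.filter P with hI
  set Dset : Finset S := Finset.univ.filter (fun s => s ∈ D) with hDset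
  let As : Subgroup S → Finset S := fun N => Finset.univ.filter (fun s => s ∈ fitIn N ∧ s ≠ 1)
  let W : Finset S := Dset.filter (fun s => s ≠ 1 ∧ ∀ N ∈ I, s ∉ fitIn N)
  have hmI : ∀ N, N ∈ I ↔ P N := fun N => by simp [hI]
  have hmA : ∀ N s, s ∈ As N ↔ s ∈ fitIn N ∧ s ≠ 1 := fun N s => by simp [As]
  have hmW : ∀ s, s ∈ W ↔ s ∈ D ∧ s ≠ 1 ∧ ∀ N ∈ I, s ∉ fitIn N := fun s => by simp [W, hDset]
  have hWpart : ∀ w ∈ W, ∃ (c : S) (N : Subgroup S), P N ∧ c ∈ fitIn N ∧ c ≠ 1 ∧ c ∈ D ∧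
      c ∈ Subgroup.zpowers w ∧
      ∃ (d : S) (N' : Subgroup S), P N' ∧ d ∈ fitIn N' ∧ d ≠ 1 ∧ d ∈ D ∧
        d ∈ Subgroup.zpowers w ∧ N ≠ N' := by
    intro w hw
    obtain ⟨hwD, hw1, hwN⟩ := (hmW w).mp hw
    obtain ⟨q, c, hq, hc, hcq, hc1⟩ := exists_part hw1
    haveI : Fact q.Prime := ⟨hq⟩
    obtain ⟨T, N, -, -, hN, hcN⟩ := exists_normalizer V hnc hcq hc1
    have hcD := Subgroup.zpowers_le.mpr hwD hc
    have hPN : P N := ⟨hN, c, hcN, hcD, hc1⟩
    refine ⟨c, N, hPN, hcN, hc1, hcD, hc, ?_⟩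
    by_contra hcon
    refine hwN N ((hmI N).mpr hPN) (mem_of_parts _ _ w rfl fun d hd r hr hdr => ?_)
    by_cases hd1 : d = 1
    · rw [hd1]; exact one_mem _
    haveI : Fact r.Prime := ⟨hr⟩
    obtain ⟨R, N', -, -, hN', hdN'⟩ := exists_normalizer V hnc hdr hd1
    have hdD := Subgroup.zpowers_le.mpr hwD hd
    by_contra hdN
    exact hcon ⟨d, N', ⟨hN', d, hdN', hdD, hd1⟩, hdN', hd1, hdD, hd, fun e => hdN (e ▸ hdN')⟩
  have hWfib : ∀ g : S, ∀ w ∈ W, g * w * g⁻¹ ∈ W → g ∈ D := by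
    intro g w hw hgw
    obtain ⟨c, N, hN, hcN, hc1, hcD, hc, d, N', hN', hdN', hd1, hdD, hd, hNN'⟩ := hWpart w hw
    have key : ∀ c N, P N → c ∈ fitIn N → c ≠ 1 → c ∈ Subgroup.zpowers w → g ∈ N := by
      intro c N hN hcN hc1 hc
      have hgD : g * c * g⁻¹ ∈ D := conj_zpowers_mem V hnc hc ((hmW _).mp hgw).1
      obtain ⟨q, e, hq, he, heq, he1⟩ := exists_part (g := g * c * g⁻¹) (by simpa using hc1)
      haveI : Fact q.Prime := ⟨hq⟩
      obtain ⟨T, N₂, -, -, hN₂, heN₂⟩ := exists_normalizer V hnc heq he1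
      have hPN₂ : P N₂ := ⟨hN₂, e, heN₂, Subgroup.zpowers_le.mpr hgD he, he1⟩
      -- `g⁻¹ e g` lies in `F(N)`
      have he' : g⁻¹ * e * g⁻¹⁻¹ ∈ fitIn N := conj_zpowers_mem V hnc he (by simpa [mul_assoc] using hcN)
      have := hcross N₂ N hPN₂ hN e g⁻¹ heN₂ he1 he'
      subst this
      simpa using mem_of_conj_fitIn V hnc hN.1 heN₂ he1 he'
    rw [← (hlink N N' hN hN' hNN').2]
    exact ⟨key c N hN hcN hc1 hc, key d N' hN' hdN' hd1 hd⟩
  let CW := (Finset.univ ×ˢ W).image fun p : S × S => p.1 * p.2 * p.1⁻¹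
  let CA := fun N => (Finset.univ ×ˢ As N).image fun p : S × S => p.1 * p.2 * p.1⁻¹
  have hmC : ∀ (X : Finset S) (s : S), s ∈ (Finset.univ ×ˢ X).image (fun p : S × S => p.1 * p.2 * p.1⁻¹) ↔
      ∃ g, ∃ w ∈ X, g * w * g⁻¹ = s := fun X s => by simp
  have hdis1 : ∀ N ∈ I, ∀ N' ∈ I, N ≠ N' → Disjoint (CA N) (CA N') := by
    intro N hN N' hN' hNN'
    rw [Finset.disjoint_left]
    intro s hs hs'
    obtain ⟨g, a, ha, rfl⟩ := (hmC _ _).mp hs
    obtain ⟨g', a', ha', he⟩ := (hmC _ _).mp hs'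
    refine hNN' (hcross N N' ((hmI N).mp hN) ((hmI N').mp hN') a (g'⁻¹ * g) ((hmA N a).mp ha).1
      ((hmA N a).mp ha).2 ?_)
    have : g'⁻¹ * g * a * (g'⁻¹ * g)⁻¹ = a' := by
      calc g'⁻¹ * g * a * (g'⁻¹ * g)⁻¹ = g'⁻¹ * (g * a * g⁻¹) * g' := by group
        _ = a' := by rw [← he]; group
    exact this ▸ ((hmA N' a').mp ha').1
  have hdis2 : Disjoint CW (I.biUnion CA) := by
    rw [Finset.disjoint_left]
    intro s hs hs'
    obtain ⟨N', hN', hs'⟩ := Finset.mem_biUnion.mp hs'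
    obtain ⟨g, w, hw, rfl⟩ := (hmC _ _).mp hs
    obtain ⟨g', a', ha', he⟩ := (hmC _ _).mp hs'
    have hk : g'⁻¹ * g * w * (g'⁻¹ * g)⁻¹ = a' := by
      calc g'⁻¹ * g * w * (g'⁻¹ * g)⁻¹ = g'⁻¹ * (g * w * g⁻¹) * g' := by group
        _ = a' := by rw [← he]; group
    set k := g'⁻¹ * g
    have hPN' := (hmI N').mp hN'
    have hkw : k * w * k⁻¹ ∈ fitIn N' := hk ▸ ((hmA N' a').mp ha').1
    obtain ⟨c, N, hN, hcN, hc1, -, hc, -⟩ := hWpart w hw
    have hkc := conj_zpowers_mem V hnc hc hkw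
    have := hcross N N' hN hPN' c k hcN hc1 hkc
    subst this
    have hkN := mem_of_conj_fitIn V hnc hN.1 hcN hc1 hkc
    refine ((hmW w).mp hw).2.2 N hN' ?_
    simpa [mul_assoc] using conj_mem_fitIn V hnc (inv_mem hkN) hkw
  have hsub : CW.card + ∑ N ∈ I, (CA N).card < Fintype.card S := by
    rw [← Finset.card_biUnion hdis1, ← Finset.card_union_of_disjoint hdis2, ← Finset.card_univ]
    refine Finset.card_lt_card ⟨Finset.subset_univ _, fun hu => ?_⟩
    rcases Finset.mem_union.mp (hu (Finset.mem_univ (1 : S))) with h1 | h1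
    · obtain ⟨g, w, hw, he⟩ := (hmC _ _).mp h1
      exact ((hmW w).mp hw).2.1 (by simpa using he)
    · obtain ⟨N, hN, h1⟩ := Finset.mem_biUnion.mp h1
      obtain ⟨g, a, ha, he⟩ := (hmC _ _).mp h1
      exact ((hmA N a).mp ha).2 (by simpa using he)
  have hDcard : Nat.card D = 1 + W.card + ∑ N ∈ I, (As N ∩ Dset).card := by
    have hdisA : ∀ N ∈ I, ∀ N' ∈ I, N ≠ N' → Disjoint (As N ∩ Dset) (As N' ∩ Dset) := by
      intro N hN N' hN' hNN'
      rw [Finset.disjoint_left]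
      intro s hs hs'
      exact hNN' (eq_of_mem_fitIn V hnc ((hmI N).mp hN).1 ((hmI N').mp hN').1
        ((hmA N s).mp (Finset.mem_inter.mp hs).1).1 ((hmA N' s).mp (Finset.mem_inter.mp hs').1).1
        ((hmA N s).mp (Finset.mem_inter.mp hs).1).2)
    have hdisW : Disjoint W (I.biUnion fun N => As N ∩ Dset) := by
      rw [Finset.disjoint_left]
      intro s hs hs'
      obtain ⟨N, hN, hs'⟩ := Finset.mem_biUnion.mp hs'
      exact ((hmW s).mp hs).2.2 N hN ((hmA N s).mp (Finset.mem_inter.mp hs').1).1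
    rw [← Finset.card_biUnion hdisA, add_assoc, ← Finset.card_union_of_disjoint hdisW,
      show Nat.card D = Dset.card by
        rw [Nat.card_eq_fintype_card, Fintype.card_subtype],
      ← Finset.card_singleton (1 : S), ← Finset.card_union_of_disjoint]
    · congr 1
      ext s
      simp only [hDset, Finset.mem_filter, Finset.mem_univ, true_and, Finset.mem_union,
        Finset.mem_singleton, Finset.mem_biUnion, Finset.mem_inter, hmW, hmA]
      constructor
      · intro hs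
        by_cases hs1 : s = 1
        · exact Or.inl hs1
        by_cases hsN : ∀ N ∈ I, s ∉ fitIn N
        · exact Or.inr (Or.inl ⟨hs, hs1, hsN⟩)
        · push Not at hsN
          obtain ⟨N, hN, hsN⟩ := hsN
          exact Or.inr (Or.inr ⟨N, hN, ⟨hsN, hs1⟩, hs⟩)
      · rintro (rfl | ⟨hs, -⟩ | ⟨N, -, -, hs⟩)
        · exact one_mem _
        · exact hs
        · exact hs
    · rw [Finset.disjoint_singleton_left]
      intro h1
      rcases Finset.mem_union.mp h1 with h1 | h1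
      · exact ((hmW 1).mp h1).2.1 rfl
      · obtain ⟨N, -, h1⟩ := Finset.mem_biUnion.mp h1
        exact ((hmA N 1).mp (Finset.mem_inter.mp h1).1).2 rfl
  have hA : ∀ N ∈ I, Fintype.card S * (3 * (As N ∩ Dset).card + 2) ≤
      3 * Nat.card D * (CA N).card := by
    intro N hNI
    have hN := (hmI N).mp hNI
    obtain ⟨N', hN', hNN'⟩ : ∃ N', P N' ∧ N ≠ N' := by
      by_cases hNM : N = M
      · exact ⟨M', hP_M', hNM ▸ hne⟩
      · exact ⟨M, hP_M, hNM⟩
    obtain ⟨hL, hND⟩ := hlink N N' hN hN' hNN'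
    set A := fitIn N with hAdef
    have h1 : Fintype.card S * (As N).card ≤ (CA N).card * Nat.card N :=
      card_mul_le (As N) N fun g w hw hgw => mem_of_conj_fitIn V hnc hN.1 ((hmA N w).mp hw).1
        ((hmA N w).mp hw).2 ((hmA N _).mp hgw).1
    set a := Nat.card A with ha
    set s := Nat.card (A ⊓ D : Subgroup S) with hs
    have hcA : (As N).card + 1 = a := by
      have he : As N = (Finset.univ.filter (fun s => s ∈ A)).erase 1 := by
        ext z; simp [As, hAdef, and_comm]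
      rw [he, Finset.card_erase_add_one (by simp), ha, Nat.card_eq_fintype_card,
        Fintype.card_subtype]
    have hcs : (As N ∩ Dset).card + 1 = s := by
      have he : As N ∩ Dset = (Finset.univ.filter (fun s => s ∈ A ⊓ D)).erase 1 := by
        ext z; simp [As, hAdef, hDset]; tauto
      rw [he, Finset.card_erase_add_one (by simp), hs, Nat.card_eq_fintype_card,
        Fintype.card_subtype]
    have h3 : 3 * s ≤ a := by
      have hidx : s * (A ⊓ D).relIndex A = a := by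
        have := Subgroup.card_mul_index ((A ⊓ D).subgroupOf A)
        rwa [Core.card_subgroupOf inf_le_left] at this
      have hoddA : Odd a := hodd.of_dvd_nat (Subgroup.card_subgroup_dvd_card A)
      have hoddi : Odd ((A ⊓ D).relIndex A) := by
        rw [← hidx] at hoddA
        exact (Nat.odd_mul.mp hoddA).2
      have hne1 : (A ⊓ D).relIndex A ≠ 1 := by
        intro he
        rw [Subgroup.relIndex_eq_one, le_inf_iff] at he
        obtain ⟨q, hq, T, c, hcN, hcD, hc1, hcT, hNT⟩ := hwit N hN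
        have hTA : (T : Subgroup S) ≤ A := by
          rw [hAdef, hNT]; exact sylow_le_fitIn V hnc T
        obtain ⟨z, hz, hzT, hz1, -⟩ :=
          exists_central_value V hnc T (fun hb => hc1 (by simpa [hb] using hcT))
        have hzN' : z ∈ N' := hDle N' hN' (he.2 (hTA hzT))
        have hle := le_normalizer_of_value V hnc (isCoatom_of_isSylowNormalizer V hnc hN'.1).1 hz
          hzN' hz1 T hzT
        rw [← hNT] at hle
        rcases hle.eq_or_lt with e | e
        · exact hNN' e.symm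
        · exact (isCoatom_of_isSylowNormalizer V hnc hN.1).1
            ((isCoatom_of_isSylowNormalizer V hnc hN'.1).2 _ e)
      obtain ⟨t, ht⟩ := hoddi
      rw [← hidx, mul_comm 3 s]
      exact Nat.mul_le_mul_left s (by omega)
    have h2 : Nat.card N * s ≤ a * Nat.card D := by
      set F := Cfsg.fittingSubgroup N
      set D' := D.subgroupOf N
      have hDN : D ≤ N := hDle N hN
      have htop : F ⊔ D' = ⊤ := by
        apply Subgroup.map_injective N.subtype_injective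
        rw [Subgroup.map_sup, Subgroup.subgroupOf_map_subtype, inf_eq_left.mpr hDN,
          ← MonoidHom.range_eq_map, Subgroup.range_subtype]
        refine le_antisymm (sup_le (Subgroup.map_subtype_le _) hDN) ?_
        have := le_sup_inf V hnc hL
        rwa [hND] at this
      have e1 : F.index = F.relIndex D' := by
        rw [← Subgroup.relIndex_top_right, ← htop, sup_comm, Subgroup.relIndex_sup_right]
      have e2 : Nat.card (F ⊓ D' : Subgroup N) * F.relIndex D' = Nat.card D' := by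
        have h := Subgroup.card_mul_index (F.subgroupOf D')
        rwa [← Subgroup.inf_subgroupOf_right, Core.card_subgroupOf inf_le_right,
          Subgroup.inf_subgroupOf_right] at h
      have e3 : Nat.card (F ⊓ D' : Subgroup N) = s := by
        rw [hs, ← Core.card_map_subtype (F ⊓ D'), Subgroup.map_inf _ _ _ N.subtype_injective,
          Subgroup.subgroupOf_map_subtype, inf_eq_left.mpr hDN]
        rfl
      have e4 : Nat.card D' = Nat.card D := Core.card_subgroupOf hDN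
      have e5 : Nat.card F = a := (Core.card_map_subtype F).symm
      rw [← Subgroup.card_mul_index F, e1, e5, ← e4, ← e2, e3, mul_assoc,
        mul_comm (F.relIndex D')]
    have hs0 : 0 < s := Nat.card_pos
    have ha0 : 0 < a := Nat.card_pos
    have hA' : (As N).card = a - 1 := by omega
    have hs' : (As N ∩ Dset).card = s - 1 := by omega
    rw [hA'] at h1
    rw [hs']
    refine Nat.le_of_mul_le_mul_left ?_ ha0
    have e : a * (3 * (s - 1) + 2) ≤ 3 * s * (a - 1) := by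
      obtain ⟨t, ht⟩ := Nat.exists_eq_succ_of_ne_zero hs0.ne'
      obtain ⟨b, hb⟩ := Nat.exists_eq_succ_of_ne_zero ha0.ne'
      rw [ht, hb] at h3 ⊢
      simp only [Nat.succ_sub_one]
      nlinarith
    calc a * (Fintype.card S * (3 * (s - 1) + 2)) = Fintype.card S * (a * (3 * (s - 1) + 2)) := by ring
      _ ≤ Fintype.card S * (3 * s * (a - 1)) := Nat.mul_le_mul_left _ e
      _ = 3 * s * (Fintype.card S * (a - 1)) := by ring
      _ ≤ 3 * s * ((CA N).card * Nat.card N) := Nat.mul_le_mul_left _ h1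
      _ = 3 * (CA N).card * (Nat.card N * s) := by ring
      _ ≤ 3 * (CA N).card * (a * Nat.card D) := Nat.mul_le_mul_left _ h2
      _ = a * (3 * Nat.card D * (CA N).card) := by ring
  have hW : Fintype.card S * W.card ≤ CW.card * Nat.card D := card_mul_le W D hWfib
  have hI2 : 2 ≤ I.card := Finset.one_lt_card.mpr
    ⟨M, (hmI M).mpr hP_M, M', (hmI M').mpr hP_M', hne⟩
  have hsum := Finset.sum_le_sum hA
  rw [← Finset.mul_sum, Finset.sum_add_distrib, ← Finset.mul_sum, Finset.sum_const, smul_eq_mul,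
    ← Finset.mul_sum] at hsum
  have hd0 : 0 < Nat.card D := Nat.card_pos
  have hn0 : 0 < Fintype.card S := Fintype.card_pos
  nlinarith [hsum, hW, hsub, hDcard, hI2, Nat.mul_le_mul_left (Fintype.card S) hI2,
    Nat.mul_le_mul_left (Nat.card D) (Nat.succ_le_of_lt hsub)]

theorem false_of_valSys : False := by
  have hodd := odd_card V hnc
  have hCN := isCNGroup V hnc fun ⟨M, M', h⟩ => not_linked V hnc hodd h
  haveI : Group.IsSolvable S := S0183.result hodd hCN
  obtain ⟨a, b, hab⟩ := hnc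
  exact hab (IsSimpleGroup.comm_iff_isSolvable.mpr inferInstance a b)

end ValSys

end Cfsg.Agent.CommVal
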