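/-
The criterion for nilpotency of a term of the lower central series: induction on the order.
-/
import Cfsg.Agent.CommVal.Odd

set_option linter.unusedSectionVars false
set_option linter.style.haveILetI false
set_option autoImplicit false

namespace Cfsg.Agent.CommVal

open scoped commutatorElement

universe u

variable {G : Type u} [Group G]

theorem exists_val_lift {H : Type*} [Group H] {f : G →* H} (hf : Function.Surjective f) :
    ∀ (k : ℕ) {x : H}, x ∈ Val H k → ∃ y ∈ Val G k, f y = x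
  | 0, x, _ => ⟨_, Set.mem_univ _, (hf x).choose_spec⟩
  | k + 1, _, ⟨a, ha, b, hab⟩ => by
    obtain ⟨a', ha', rfl⟩ := exists_val_lift hf k ha
    obtain ⟨b', rfl⟩ := hf b
    exact ⟨⁅a', b'⁆, ⟨a', ha', b', rfl⟩, by rw [← hab, map_commutatorElement]⟩

theorem map_iterate_phi {H : Type*} [Group H] (f : G →* H) (g u : G) :
    ∀ k : ℕ, f ((phi g)^[k] u) = (phi (f g))^[k] (f u)
  | 0 => rfl
  | k + 1 => by
    rw [Function.iterate_succ_apply', Function.iterate_succ_apply', ← map_iterate_phi f g u k,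
      phi, phi, map_commutatorElement]

/-- An element of `q'`-order normalizing a `q`-subgroup of a quotient lifts to such an element
normalizing a `q`-subgroup over it. -/
theorem exists_lift_normalizing [Finite G] {N : Subgroup G} [N.Normal] {q : ℕ} [hq : Fact q.Prime]
    {T : Subgroup (G ⧸ N)} (hT : IsPGroup q T) {c : G ⧸ N}
    (hc : c ∈ Subgroup.normalizer (T : Set (G ⧸ N))) (hco : (orderOf c).Coprime q) :
    ∃ (U : Subgroup G) (d : G), IsPGroup q U ∧ U.map (QuotientGroup.mk' N) = T ∧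
      d ∈ Subgroup.normalizer (U : Set G) ∧ (orderOf d).Coprime q ∧ QuotientGroup.mk' N d = c := by
  set π := QuotientGroup.mk' N
  have hπ : Function.Surjective π := QuotientGroup.mk'_surjective N
  set K := T.comap π with hK
  obtain ⟨P⟩ : Nonempty (Sylow q K) := inferInstance
  set U := (P : Subgroup K).map K.subtype with hU
  have hf : Function.Surjective ((π.comp K.subtype).codRestrict T fun x => x.2) := by
    rintro ⟨t, ht⟩
    obtain ⟨g, rfl⟩ := hπ t
    exact ⟨⟨g, ht⟩, rfl⟩
  have hUT : U.map π = T := by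
    have h1 : ((P.mapSurjective hf : Sylow q T) : Subgroup T) = ⊤ := by
      have htop : IsPGroup q (⊤ : Subgroup T) := hT.of_equiv Subgroup.topEquiv.symm
      exact ((P.mapSurjective hf).is_maximal' htop le_top).symm
    rw [Sylow.coe_mapSurjective] at h1
    have h2 := congrArg (Subgroup.map T.subtype) h1
    rw [Subgroup.map_map, ← MonoidHom.range_eq_map, Subgroup.range_subtype] at h2
    rw [hU, Subgroup.map_map, ← h2]
    rfl
  -- the image of the normalizer of `U` contains `c`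
  obtain ⟨g, hg⟩ := hπ c
  have hgK : ∀ x, x ∈ K ↔ g * x * g⁻¹ ∈ K := fun x => by
    simp only [hK, Subgroup.mem_comap, map_mul, map_inv, hg]
    exact Subgroup.mem_normalizer_iff.mp hc (π x)
  have hgN : g ∈ Subgroup.normalizer (K : Set G) := Subgroup.mem_normalizer_iff.mpr hgK
  set G₁ := Subgroup.normalizer (K : Set G)
  have hKG : K ≤ G₁ := Subgroup.le_normalizer
  haveI : (K.subgroupOf G₁).Normal := Subgroup.normal_in_normalizer
  let e := Subgroup.subgroupOfEquivOfLe hKG
  set P₁ : Sylow q (K.subgroupOf G₁) :=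
    P.comapOfInjective e.toMonoidHom e.injective (fun x _ => e.surjective x)
  have htop := Sylow.normalizer_sup_eq_top P₁
  have hgmem : (⟨g, hgN⟩ : G₁) ∈ Subgroup.normalizer (((P₁ : Subgroup (K.subgroupOf G₁)).map
      (K.subgroupOf G₁).subtype : Subgroup G₁) : Set G₁) ⊔ K.subgroupOf G₁ := htop ▸ Subgroup.mem_top _
  obtain ⟨n, hn, κ, hκ, hnκ⟩ := Subgroup.mem_sup_of_normal_right.mp hgmem
  have hmemU : ∀ x : G₁, x ∈ (P₁ : Subgroup (K.subgroupOf G₁)).map (K.subgroupOf G₁).subtype ↔
      (x : G) ∈ U := by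
    intro x
    constructor
    · rintro ⟨z, hz, rfl⟩
      exact ⟨e z, hz, rfl⟩
    · rintro ⟨z, hz, hzx⟩
      have hxK : x ∈ K.subgroupOf G₁ := by rw [Subgroup.mem_subgroupOf, ← hzx]; exact z.2
      refine ⟨⟨x, hxK⟩, ?_, rfl⟩
      have he : e ⟨x, hxK⟩ = z := Subtype.ext hzx.symm
      show e ⟨x, hxK⟩ ∈ (P : Subgroup K)
      rwa [he]
  have hUle : U ≤ G₁ := (Subgroup.map_subtype_le _).trans hKG
  have hnU : (n : G) ∈ Subgroup.normalizer (U : Set G) := by
    rw [Subgroup.mem_normalizer_iff]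
    intro x
    constructor
    · intro hx
      have := (Subgroup.mem_normalizer_iff.mp hn ⟨x, hUle hx⟩).mp ((hmemU _).mpr hx)
      exact (hmemU _).mp this
    · intro hx
      have hxG : x ∈ G₁ := by
        simpa [mul_assoc] using mul_mem (mul_mem (inv_mem n.2) (hUle hx)) n.2
      exact (hmemU ⟨x, hxG⟩).mp
        ((Subgroup.mem_normalizer_iff.mp hn ⟨x, hxG⟩).mpr ((hmemU _).mpr hx))
  have hκT : π (κ : G) ∈ U.map π := hUT.symm ▸ hκ
  obtain ⟨z, hz, hzκ⟩ := hκT
  set d₀ := (n : G) * z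
  have hd₀N : d₀ ∈ Subgroup.normalizer (U : Set G) := mul_mem hnU (Subgroup.le_normalizer hz)
  have hd₀π : π d₀ = c := by
    rw [map_mul, hzκ, ← map_mul, ← hg]
    exact congrArg (fun x : G₁ => π (x : G)) hnκ
  -- the `q'`-part
  set m := (orderOf d₀).factorization q
  have hd0 : orderOf d₀ ≠ 0 := (orderOf_pos d₀).ne'
  have hcop : (q ^ m).Coprime (orderOf c) := (hco.symm.pow_left m)
  obtain ⟨i, hi⟩ := exists_pow_eq_self_of_coprime hcop
  refine ⟨U, (d₀ ^ q ^ m) ^ i, P.isPGroup'.map _, hUT, pow_mem (pow_mem hd₀N _) _, ?_, ?_⟩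
  · refine Nat.Coprime.coprime_dvd_left (orderOf_pow_dvd _) ?_
    rw [orderOf_pow_of_dvd (pow_ne_zero _ hq.out.ne_zero) (Nat.ordProj_dvd _ _)]
    exact (Nat.coprime_ordCompl hq.out hd0).symm
  · rw [map_pow, map_pow, hd₀π]
    exact hi

/-- A nontrivial action of a `q'`-element on a `q`-subgroup of a quotient yields a value of
`q`-power order with image in that subgroup and nontrivial. -/
theorem exists_value_of_action [Finite G] {N : Subgroup G} [N.Normal] {q : ℕ} [hq : Fact q.Prime]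
    (k : ℕ) {T : Subgroup (G ⧸ N)} (hT : IsPGroup q T) {c : G ⧸ N}
    (hc : c ∈ Subgroup.normalizer (T : Set (G ⧸ N))) (hco : (orderOf c).Coprime q)
    {t : G ⧸ N} (ht : t ∈ T) (hmov : ¬ Commute t c) :
    ∃ y ∈ Val G k, (∃ m, orderOf y = q ^ m) ∧
      QuotientGroup.mk' N y ∈ T ∧ QuotientGroup.mk' N y ≠ 1 := by
  obtain ⟨U, d, hU, hUT, hd, -, hdc⟩ := exists_lift_normalizing hT hc hco
  obtain ⟨u, hu, hut⟩ : t ∈ U.map (QuotientGroup.mk' N) := hUT ▸ ht
  have hyU := iterate_phi_mem hd hu k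
  refine ⟨_, iterate_phi_mem_val d u k, ?_, hUT ▸ ⟨_, hyU, rfl⟩, ?_⟩
  · obtain ⟨m, hm⟩ := IsPGroup.iff_orderOf.mp hU ⟨_, hyU⟩
    exact ⟨m, by rwa [Subgroup.orderOf_mk] at hm⟩
  · rw [map_iterate_phi, hdc, hut]
    intro h1
    apply hmov
    refine commutatorElement_eq_one_iff_commute.mp (phi_eq_one_of_iterate hc ?_ ht k ?_)
    · obtain ⟨n, hn⟩ := IsPGroup.iff_card.mp hT
      rw [hn]
      exact (hco.symm).pow_left n
    · rw [Function.iterate_succ_apply', h1, phi, commutatorElement_one_left]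

theorem lowerCentralSeries_map_top {H : Type*} [Group H] {f : G →* H}
    (hf : Function.Surjective f) (k : ℕ) :
    ((⊤ : Subgroup G).lowerCentralSeries k).map f = (⊤ : Subgroup H).lowerCentralSeries k := by
  rw [Subgroup.map_lowerCentralSeries, Subgroup.map_top_of_surjective f hf]

/-- No nontrivial perfect group satisfies the condition minimally. -/
theorem not_perfect [Finite G] [Nontrivial G] {k : ℕ} (hC : Cond G k)
    (hperf : commutator G = ⊤)
    (hprop : ∀ M : Subgroup G, M ≠ ⊤ →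
      Group.IsNilpotent ((⊤ : Subgroup M).lowerCentralSeries k)) : False := by
  obtain ⟨R, ⟨hRn, hRt⟩, hRmax⟩ := Set.Finite.exists_maximalFor id
    {R : Subgroup G | R.Normal ∧ R ≠ ⊤} (Set.toFinite _) ⟨⊥, inferInstance, bot_ne_top⟩
  haveI := hRn
  set π := QuotientGroup.mk' R
  have hπ : Function.Surjective π := QuotientGroup.mk'_surjective R
  haveI : Nontrivial (G ⧸ R) := QuotientGroup.nontrivial_iff.mpr hRt
  haveI : IsSimpleGroup (G ⧸ R) := by
    refine ⟨fun H hH => ?_⟩
    have hle : R ≤ H.comap π := QuotientGroup.le_comap_mk' R H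
    by_cases ht : H.comap π = ⊤
    · right
      apply Subgroup.comap_injective hπ
      rw [ht, Subgroup.comap_top]
    · left
      apply Subgroup.comap_injective hπ
      have hR : H.comap π = R := le_antisymm (hRmax ⟨hH.comap π, ht⟩ hle) hle
      rw [hR, MonoidHom.comap_bot, QuotientGroup.ker_mk']
  have hnc : ∃ a b : G ⧸ R, a * b ≠ b * a := by
    by_contra hcon
    push Not at hcon
    apply hRt
    rw [eq_top_iff, ← hperf, commutator_def, Subgroup.commutator_le]
    intro a _ b _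
    rw [← QuotientGroup.eq_one_iff]
    show π ⁅a, b⁆ = 1
    rw [map_commutatorElement, commutatorElement_eq_one_iff_mul_comm]
    exact hcon _ _
  have hMne : ∀ M : Subgroup (G ⧸ R), M ≠ ⊤ → M.comap π ≠ ⊤ := fun M hM h =>
    hM (Subgroup.comap_injective hπ (h.trans (Subgroup.comap_top π).symm))
  let res : ∀ M : Subgroup (G ⧸ R), (M.comap π : Subgroup G) →* M := fun M =>
    (π.comp (M.comap π).subtype).codRestrict M fun x => x.2
  have hres : ∀ M, Function.Surjective (res M) := by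
    rintro M ⟨t, ht⟩
    obtain ⟨g, rfl⟩ := hπ t
    exact ⟨⟨g, ht⟩, rfl⟩
  have hsyl : ∀ (q : ℕ) [Fact q.Prime] (P : Sylow q (G ⧸ R)),
      ∃ Q : Sylow q G, (Q : Subgroup G).map π = (P : Subgroup (G ⧸ R)) := by
    intro q _ P
    obtain ⟨Q⟩ : Nonempty (Sylow q G) := inferInstance
    obtain ⟨x, hx⟩ := MulAction.exists_smul_eq (G ⧸ R) (Q.mapSurjective hπ) P
    obtain ⟨g, rfl⟩ := hπ x
    refine ⟨g • Q, ?_⟩
    rw [← hx]
    ext y
    simp only [Sylow.coe_subgroup_smul, Sylow.coe_mapSurjective, Subgroup.mem_map,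
      Subgroup.mem_smul_pointwise_iff_exists, MulAut.smul_def]
    constructor
    · rintro ⟨z, ⟨w, hw, rfl⟩, rfl⟩
      exact ⟨π w, ⟨w, hw, rfl⟩, by simp⟩
    · rintro ⟨z, ⟨w, hw, rfl⟩, rfl⟩
      exact ⟨_, ⟨w, hw, rfl⟩, by simp⟩
  refine ValSys.false_of_valSys (S := G ⧸ R) ?_ hnc
  refine
    { V := fun q => π '' {y | y ∈ Val G k ∧ ∃ m, orderOf y = q ^ m}
      orderOf_eq := ?_
      conj := ?_
      comm := ?_
      gen := ?_
      core := ?_
      comm_fitting := ?_
      invol := ?_ }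
  · rintro q hq _ ⟨y, ⟨-, m, hm⟩, rfl⟩
    obtain ⟨j, -, hj⟩ := (Nat.dvd_prime_pow hq).mp (hm ▸ orderOf_map_dvd π y)
    exact ⟨j, hj⟩
  · rintro q hq _ ⟨y, ⟨hy, m, hm⟩, rfl⟩ g
    obtain ⟨g, rfl⟩ := hπ g
    refine ⟨g * y * g⁻¹, ⟨val_conj hy g, m, ?_⟩, by simp⟩
    rw [← hm]
    exact orderOf_injective (MulAut.conj g).toMonoidHom (MulAut.conj g).injective y
  · rintro q _ P _ ⟨y, ⟨hy, m, hm⟩, rfl⟩ hyP x hx
    obtain ⟨Q, hQ⟩ := hsyl q P
    set K := (P : Subgroup (G ⧸ R)).comap π with hK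
    have hQK : (Q : Subgroup G) ≤ K := Subgroup.map_le_iff_le_comap.mp hQ.le
    obtain ⟨P', hP'⟩ := exists_sylow_mem (S := K) (q := q) (c := ⟨y, hyP⟩) ⟨m, (orderOf_injective K.subtype K.subtype_injective _).symm.trans hm⟩
    obtain ⟨κ, hκ⟩ := MulAction.exists_smul_eq K P' (Q.subtype hQK)
    have hyQ : (κ : G) * y * (κ : G)⁻¹ ∈ (Q : Subgroup G) := by
      have : κ * (⟨y, hyP⟩ : K) * κ⁻¹ ∈ ((Q.subtype hQK : Sylow q K) : Subgroup K) := by
        rw [← hκ, Sylow.coe_subgroup_smul]
        simpa [MulAut.smul_def] using Subgroup.smul_mem_pointwise_smul (⟨y, hyP⟩ : K) (MulAut.conj κ) _ hP'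
      exact this
    obtain ⟨v, hv, hvκ⟩ : π (κ : G) ∈ (Q : Subgroup G).map π := hQ.symm ▸ κ.2
    set y' := v⁻¹ * ((κ : G) * y * (κ : G)⁻¹) * v
    have hy'Q : y' ∈ (Q : Subgroup G) := mul_mem (mul_mem (inv_mem hv) hyQ) hv
    have hy'v : y' ∈ Val G k := by
      have h := val_conj (val_conj hy (κ : G)) v⁻¹
      simpa [y'] using h
    have hπy : π y' = π y := by
      simp only [y', map_mul, map_inv, hvκ]
      group
    obtain ⟨x', hx', rfl⟩ : x ∈ (Q : Subgroup G).map π := hQ.symm ▸ hx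
    refine ⟨⁅y', x'⁆, ⟨val_comm hy'v x', ?_⟩, by rw [map_commutatorElement, hπy]⟩
    have hmem : ⁅y', x'⁆ ∈ (Q : Subgroup G) := by
      rw [commutatorElement_def]
      exact mul_mem (mul_mem (mul_mem hy'Q hx') (inv_mem hy'Q)) (inv_mem hx')
    obtain ⟨j, hj⟩ := IsPGroup.iff_orderOf.mp Q.isPGroup' ⟨_, hmem⟩
    exact ⟨j, by rwa [Subgroup.orderOf_mk] at hj⟩
  · intro q _ P
    obtain ⟨Q, hQ⟩ := hsyl q P
    refine le_antisymm ?_ ((Subgroup.closure_le _).mpr Set.inter_subset_right)
    conv_lhs => rw [← hQ, sylow_eq_closure_val hperf k Q, MonoidHom.map_closure]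
    refine Subgroup.closure_mono ?_
    rintro _ ⟨y, ⟨hy, hyQ⟩, rfl⟩
    refine ⟨⟨y, ⟨hy, ?_⟩, rfl⟩, hQ.le ⟨y, hyQ, rfl⟩⟩
    obtain ⟨j, hj⟩ := IsPGroup.iff_orderOf.mp Q.isPGroup' ⟨_, hyQ⟩
    exact ⟨j, by rwa [Subgroup.orderOf_mk] at hj⟩
  · rintro q _ M hM _ ⟨y, ⟨hy, hyq⟩, rfl⟩ hyM
    obtain ⟨z, hz, hzy⟩ := hC.mem_pCore (hprop _ (hMne M hM)) hy hyq hyM
    refine ⟨res M z, Core.map_pCore_le (hres M) ⟨z, hz, rfl⟩, ?_⟩
    show π (z : G) = π y
    exact congrArg π hzy
  · intro M hM g hg h hh hco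
    haveI hn : Group.IsNilpotent (M ⧸ Cfsg.fittingSubgroup M) := by
      refine nilpotent_iff_lowerCentralSeries.mpr ⟨k, ?_⟩
      rw [← lowerCentralSeries_map_top (QuotientGroup.mk'_surjective _) k, Subgroup.map_eq_bot_iff,
        QuotientGroup.ker_mk']
      refine Core.le_fittingSubgroup inferInstance ?_
      rw [← lowerCentralSeries_map_top (hres M) k]
      exact Core.isNilpotent_map (hprop _ (hMne M hM)) _
    refine ⟨⁅(⟨g, hg⟩ : M), ⟨h, hh⟩⁆, (QuotientGroup.eq_one_iff _).mp ?_, rfl⟩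
    show QuotientGroup.mk' _ _ = 1
    rw [map_commutatorElement, commutatorElement_eq_one_iff_commute]
    refine OddLocal.commute_of_coprime_orderOf ((hco.coprime_dvd_left ?_).coprime_dvd_right ?_)
    · exact (orderOf_map_dvd _ _).trans (by rw [Subgroup.orderOf_mk])
    · exact (orderOf_map_dvd _ _).trans (by rw [Subgroup.orderOf_mk])
  · intro E hE c hc hcN a ha hmov
    haveI : Fact (Nat.Prime 2) := ⟨Nat.prime_two⟩
    have hEp : IsPGroup 2 E := fun e => ⟨1, Subtype.ext (by simpa [pow_two] using hE e e.2)⟩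
    obtain ⟨y, hy, hyq, hyE, hy1⟩ := exists_value_of_action k hEp hcN
      (hc.coprime_two_right) ha fun h => hmov (by rw [← h.eq, mul_inv_cancel_right])
    exact ⟨π y, ⟨y, ⟨hy, hyq⟩, rfl⟩, hyE, hy1⟩

/-- The criterion, for positive length. -/
theorem isNilpotent_lowerCentralSeries_succ (n : ℕ) : ∀ (G : Type u) [Group G] [Finite G] (k : ℕ),
    Nat.card G = n → Cond G (k + 1) →
      Group.IsNilpotent ((⊤ : Subgroup G).lowerCentralSeries (k + 1)) := by
  induction n using Nat.strong_induction_on with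
  | _ n ih =>
  intro G _ _ k hn hC
  rcases subsingleton_or_nontrivial G with hs | hs
  · infer_instance
  have hprop : ∀ M : Subgroup G, M ≠ ⊤ →
      Group.IsNilpotent ((⊤ : Subgroup M).lowerCentralSeries (k + 1)) := fun M hM =>
    by
    refine ih _ ?_ M k rfl (hC.subgroup M)
    rw [← hn, ← M.card_mul_index]
    exact lt_mul_of_one_lt_right Nat.card_pos (Subgroup.one_lt_index_of_ne_top hM)
  by_cases hperf : commutator G = ⊤
  · exact (not_perfect hC hperf hprop).elim
  set F := Cfsg.fittingSubgroup G with hF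
  haveI : Group.IsNilpotent F := Core.isNilpotent_fittingSubgroup G
  have hG1 : ∀ y ∈ Val G (k + 1), y ∈ commutator G := fun y hy => by
    have := val_subset_lowerCentralSeries 1 (val_mono (by omega : 1 ≤ k + 1) hy)
    rwa [Subgroup.top_lowerCentralSeries_one] at this
  have hval : ∀ (q : ℕ) [Fact q.Prime], ∀ y ∈ Val G (k + 1), (∃ m, orderOf y = q ^ m) → y ∈ F := by
    intro q _ y hy hyq
    obtain ⟨z, hz, rfl⟩ := hC.mem_pCore (hprop _ hperf) hy hyq (hG1 y hy)
    exact Core.pCore_le_fittingSubgroup q G ((Core.map_pCore_subtype q (commutator G)).le ⟨z, hz, rfl⟩).1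
  set π := QuotientGroup.mk' F
  have hπ : Function.Surjective π := QuotientGroup.mk'_surjective F
  -- the derived subgroup of `G/F` is nilpotent
  set D := (commutator G).map π with hD
  haveI : D.Normal := (inferInstance : (commutator G).Normal).map π hπ
  have hDcomm : ∀ a b : G ⧸ F, ⁅a, b⁆ ∈ D := by
    intro a b
    obtain ⟨a, rfl⟩ := hπ a
    obtain ⟨b, rfl⟩ := hπ b
    exact ⟨⁅a, b⁆, Subgroup.commutator_mem_commutator (Subgroup.mem_top a) (Subgroup.mem_top b),
      map_commutatorElement π a b⟩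
  haveI hDnil : Group.IsNilpotent D := by
    set H := commutator G
    let f : H →* D := (π.comp H.subtype).codRestrict D fun x => ⟨x, x.2, rfl⟩
    have hf : Function.Surjective f := by
      rintro ⟨_, x, hx, rfl⟩
      exact ⟨⟨x, hx⟩, rfl⟩
    refine nilpotent_iff_lowerCentralSeries.mpr ⟨k + 1, ?_⟩
    rw [← lowerCentralSeries_map_top hf, Subgroup.map_eq_bot_iff]
    intro x hx
    rw [MonoidHom.mem_ker]
    refine Subtype.ext ((QuotientGroup.eq_one_iff _).mpr ?_)
    refine Core.le_fittingSubgroup (N := ((⊤ : Subgroup H).lowerCentralSeries (k + 1)).map H.subtype)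
      (Core.normal_map_subtype_of_characteristic _) (Core.isNilpotent_map (hprop _ hperf) _)
      ⟨x, hx, rfl⟩
  -- coprime actions on normal subgroups of prime power order are trivial
  have hact : ∀ (q : ℕ) [Fact q.Prime] (T : Subgroup (G ⧸ F)), T.Normal → IsPGroup q T →
      ∀ c : G ⧸ F, (orderOf c).Coprime q → ∀ t ∈ T, Commute t c := by
    intro q _ T hTn hT c hc t ht
    by_contra hmov
    haveI := hTn
    obtain ⟨y, hy, hyq, -, hy1⟩ := exists_value_of_action (k + 1) hT
      (by rw [Subgroup.normalizer_eq_top]; exact Subgroup.mem_top c) hc ht hmov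
    exact hy1 ((QuotientGroup.eq_one_iff _).mpr (hval q y hy hyq))
  haveI hnilQ : Group.IsNilpotent (G ⧸ F) := by
    refine Core.isNilpotent_of_sylow_normal fun p hp P => ?_
    have hDN : D ≤ Subgroup.normalizer ((P : Subgroup (G ⧸ F)) : Set (G ⧸ F)) := by
      intro d hd
      refine mem_of_parts _ _ d rfl fun e he q hq heq => ?_
      by_cases he1 : e = 1
      · rw [he1]; exact one_mem _
      haveI : Fact q.Prime := ⟨hq⟩
      have heD : e ∈ D := Subgroup.zpowers_le.mpr hd he
      obtain ⟨m, hm⟩ := heq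
      obtain ⟨R, hR⟩ := exists_sylow_mem (S := D) (q := q) (c := ⟨e, heD⟩) ⟨m, by simpa using hm⟩
      haveI : (R : Subgroup D).Normal := Core.isNilpotent_iff_forall_sylow_normal.mp hDnil q ⟨hq⟩ R
      haveI := Sylow.characteristic_of_normal R inferInstance
      set T := (R : Subgroup D).map D.subtype with hT
      have hTn : T.Normal := Core.normal_map_subtype_of_characteristic _
      have hTp : IsPGroup q T := R.isPGroup'.map _
      have heT : e ∈ T := ⟨_, hR, rfl⟩
      by_cases hqp : q = p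
      · subst hqp
        exact Subgroup.le_normalizer (hTp.le_sylow_of_normal P heT)
      · have hcomm : ∀ x ∈ (P : Subgroup (G ⧸ F)), Commute e x := fun x hx => by
          obtain ⟨j, hj⟩ := IsPGroup.iff_orderOf.mp P.isPGroup' ⟨x, hx⟩
          rw [Subgroup.orderOf_mk] at hj
          refine hact q T hTn hTp x ?_ e heT
          rw [hj]
          exact ((Nat.coprime_primes hp.out hq).mpr (Ne.symm hqp)).pow_left _
        refine Subgroup.centralizer_le_normalizer _ ?_
        exact Subgroup.mem_centralizer_iff.mpr fun x hx => (hcomm x hx).eq.symm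
    -- `P D` is normal
    set L := (P : Subgroup (G ⧸ F)) ⊔ D with hL
    haveI hLn : L.Normal := ⟨fun x hx g => by
      rw [show g * x * g⁻¹ = ⁅g, x⁆ * x by simp [commutatorElement_def]]
      exact mul_mem (Subgroup.mem_sup_right (hDcomm g x)) hx⟩
    have hPn : ((P.subtype (le_sup_left : _ ≤ L) : Sylow p L) : Subgroup L).Normal := by
      rw [← Subgroup.normalizer_eq_top_iff, ← top_le_iff]
      intro x _
      rw [Subgroup.mem_normalizer_iff]
      intro z
      exact Subgroup.mem_normalizer_iff.mp ((sup_le Subgroup.le_normalizer hDN) x.2) z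
    haveI := Sylow.characteristic_of_normal _ hPn
    have := Core.normal_map_subtype_of_characteristic (H := L)
      ((P.subtype (le_sup_left : _ ≤ L) : Sylow p L) : Subgroup L)
    rwa [Sylow.coe_subtype, Subgroup.subgroupOf_map_subtype, inf_eq_left.mpr le_sup_left] at this
  -- values of `G/F` are trivial
  have hle : (⊤ : Subgroup G).lowerCentralSeries (k + 1) ≤ F := by
    rw [← QuotientGroup.ker_mk' F, ← Subgroup.map_eq_bot_iff, lowerCentralSeries_map_top hπ,
      lowerCentralSeries_eq_closure, Subgroup.closure_eq_bot_iff]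
    intro x hx
    rw [Set.mem_singleton_iff]
    let φ := Sylow.directProductOfNormal (fun {p} [hp : Fact p.Prime] (P : Sylow p (G ⧸ F)) =>
      Core.isNilpotent_iff_forall_sylow_normal.mp hnilQ p hp P)
    suffices h : φ.symm x = 1 by simpa using congrArg φ h
    funext p P
    haveI : Fact (p : ℕ).Prime := ⟨Nat.prime_of_mem_primeFactors p.2⟩
    let f : (G ⧸ F) →* (P : Subgroup (G ⧸ F)) :=
      ((Pi.evalMonoidHom (fun P : Sylow p (G ⧸ F) => ↥P) P).comp
        (Pi.evalMonoidHom (fun p : (Nat.card (G ⧸ F)).primeFactors => ∀ P : Sylow p (G ⧸ F), ↥P) p)).comp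
        φ.symm.toMonoidHom
    show f x = 1
    have hv : f x ∈ Val (P : Subgroup (G ⧸ F)) (k + 1) := val_map f _ hx
    obtain ⟨Q⟩ : Nonempty (Sylow (p : ℕ) G) := inferInstance
    have hQP : (Q : Subgroup G).map π = (P : Subgroup (G ⧸ F)) := by
      haveI : (P : Subgroup (G ⧸ F)).Normal :=
        Core.isNilpotent_iff_forall_sylow_normal.mp hnilQ p inferInstance P
      haveI : Subsingleton (Sylow (p : ℕ) (G ⧸ F)) :=
        (Sylow.unique_of_normal P inferInstance).instSubsingleton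
      rw [Subsingleton.elim P (Q.mapSurjective hπ), Sylow.coe_mapSurjective]
    let g : (Q : Subgroup G) →* (P : Subgroup (G ⧸ F)) :=
      (π.comp (Q : Subgroup G).subtype).codRestrict _ fun z => hQP.le ⟨z, z.2, rfl⟩
    have hg : Function.Surjective g := by
      rintro ⟨t, ht⟩
      obtain ⟨z, hz, rfl⟩ := hQP.symm.le ht
      exact ⟨⟨z, hz⟩, rfl⟩
    obtain ⟨z, hz, hzx⟩ := exists_val_lift hg _ hv
    obtain ⟨j, hj⟩ := IsPGroup.iff_orderOf.mp Q.isPGroup' z
    have := hval p (z : G) (val_map (Q : Subgroup G).subtype _ hz) ⟨j, by rwa [Subgroup.orderOf_coe]⟩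
    rw [← hzx]
    exact Subtype.ext ((QuotientGroup.eq_one_iff _).mpr this)
  exact Core.isNilpotent_of_le hle inferInstance

/-- The criterion. -/
theorem isNilpotent_lowerCentralSeries [Finite G] : ∀ k : ℕ, Cond G k →
    Group.IsNilpotent ((⊤ : Subgroup G).lowerCentralSeries k)
  | k + 1, hC => isNilpotent_lowerCentralSeries_succ _ G k rfl hC
  | 0, hC => by
    have h1 := isNilpotent_lowerCentralSeries_succ _ G 0 rfl hC.succ
    rw [Subgroup.lowerCentralSeries_zero, Core.isNilpotent_top_iff, ← Core.fittingSubgroup_eq_top_iff,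
      eq_top_iff]
    intro g _
    refine mem_of_parts _ _ g rfl fun y _ q hq hyq => ?_
    haveI : Fact q.Prime := ⟨hq⟩
    refine Core.pCore_le_fittingSubgroup q G (mem_pCore_of_forall_commute h1 hyq fun w hw => ?_)
    refine hC.commute (Set.mem_univ y) (P := Cfsg.pPrimeCore q G) ?_ ?_ hw
    · rw [Subgroup.normalizer_eq_top]; exact Subgroup.mem_top y
    · obtain ⟨m, hm⟩ := hyq
      rw [hm]
      exact Nat.Coprime.pow_right _ (Core.card_pPrimeCore_coprime q G)

end Cfsg.Agent.CommVal
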